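import Groth.Agent.H18.ZClos.Criteria

/-!
# Sections supported in `Z`, and localness
-/

universe u

open CategoryTheory Limits AlgebraicGeometry Opposite TopologicalSpace
open Groth.Agent.Lib.QCoh.Localizing (res res_res res_self res_app)
open Groth.Agent.Lib.Modules.Stalk

namespace Groth.Agent.H18.ZClos

noncomputable section

variable {X : Scheme.{u}} {Z : Set X} [IsLocallyNoetherian X]

/-- A section with vanishing germs outside `Z` vanishes off a member of the index. -/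
theorem exists_res_eq_zero (hZ : StableUnderSpecialization Z) {G : X.Modules} {V : X.Opens}
    (s : Γ(G, V)) (h : ∀ (y : X) (hy : y ∈ V), y ∉ Z → G.presheaf.germ V y hy s = 0) :
    ∃ T : _root_.ZClos.Cl Z, res G (inf_le_left : V ⊓ T.U ≤ V) s = 0 := by
  let C : Set X := (⋃ W : {W : X.Opens // ∃ hW : W ≤ V, res G hW s = 0}, (W.1 : Set X))ᶜ
  have hC : IsClosed C := (isOpen_iUnion fun W => W.1.2).isClosed_compl
  have hCV : C ∩ V ⊆ Z := by
    rintro y ⟨hyC, hyV⟩
    by_contra hyZ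
    obtain ⟨W, hW, hyW, hz⟩ := exists_nhd_of_germ_eq_zero hyV (h y hyV hyZ)
    exact hyC (Set.mem_iUnion.2 ⟨⟨W, hW, hz⟩, hyW⟩)
  refine ⟨clOf hZ hC V hCV, eq_zero_of_forall _ fun x hx => ?_⟩
  obtain ⟨⟨W, hW, hz⟩, hxW⟩ := Set.mem_iUnion.1 (not_not.1 (clOf_inf_U hZ hC V hCV hx))
  refine ⟨W ⊓ (V ⊓ (clOf hZ hC V hCV).U), inf_le_right, ⟨hxW, hx⟩, ?_⟩
  rw [res_res, ← res_res hW (inf_le_left : W ⊓ (V ⊓ (clOf hZ hC V hCV).U) ≤ W), hz, map_zero]

variable (V : X.Opens)

omit [IsLocallyNoetherian X] in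
theorem bijective_res_congr {F : X.Modules} {A B B' : X.Opens} (hB : B ≤ A) (e : B = B') :
    Function.Bijective (res F hB) ↔ Function.Bijective (res F (e ▸ hB : B' ≤ A)) := by
  subst e; rfl

omit [IsLocallyNoetherian X] in
theorem injective_res_congr {F : X.Modules} {A B B' : X.Opens} (hB : B ≤ A) (e : B = B') :
    Function.Injective (res F hB) ↔ Function.Injective (res F (e ▸ hB : B' ≤ A)) := by
  subst e; rfl

/-- The member of the index over an open subscheme. -/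
def clRestrict (T : _root_.ZClos.Cl Z) : _root_.ZClos.Cl (V.ι.base ⁻¹' Z) :=
  ⟨⟨V.ι.base ⁻¹' (T.1 : Set X), T.1.2.preimage V.ι.continuous⟩, fun _ hx => T.2 hx⟩

omit [IsLocallyNoetherian X] in
lemma image_clRestrict (T : _root_.ZClos.Cl Z) (W : (V : Scheme.{u}).Opens) :
    V.ι ''ᵁ (W ⊓ (clRestrict V T).U) = (V.ι ''ᵁ W) ⊓ T.U := by
  ext y
  constructor
  · rintro ⟨w, ⟨hw, hwT⟩, rfl⟩
    exact ⟨⟨w, hw, rfl⟩, hwT⟩
  · rintro ⟨⟨w, hw, rfl⟩, hwT⟩
    exact ⟨w, ⟨hw, hwT⟩, rfl⟩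

/-- The member of the index coming from an open subscheme. -/
def clExtend (hZ : StableUnderSpecialization Z) (T' : _root_.ZClos.Cl (V.ι.base ⁻¹' Z)) :
    _root_.ZClos.Cl Z :=
  clOf hZ (C := closure (V.ι.base '' (T'.1 : Set (V : Scheme.{u})))) isClosed_closure V (by
    rintro y ⟨hy, hyV⟩
    obtain ⟨w, rfl⟩ : ∃ w, V.ι.base w = y := ⟨⟨y, hyV⟩, rfl⟩
    refine T'.2 (?_ : w ∈ (T'.1 : Set (V : Scheme.{u})))
    have hind := V.ι.isOpenEmbedding.isInducing
    have : w ∈ closure (T'.1 : Set (V : Scheme.{u})) := by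
      rw [hind.closure_eq_preimage_closure_image]
      exact hy
    exact T'.1.2.closure_subset this)

lemma image_clExtend (hZ : StableUnderSpecialization Z) (T' : _root_.ZClos.Cl (V.ι.base ⁻¹' Z))
    (W : (V : Scheme.{u}).Opens) :
    V.ι ''ᵁ (W ⊓ T'.U) = (V.ι ''ᵁ W) ⊓ (clExtend V hZ T').U := by
  ext y
  constructor
  · rintro ⟨w, ⟨hw, hwT⟩, rfl⟩
    refine ⟨⟨w, hw, rfl⟩, fun hmem => hwT ?_⟩
    have h1 : V.ι.base w ∈ closure (V.ι.base '' (T'.1 : Set (V : Scheme.{u}))) :=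
      closure_minimal Set.inter_subset_left isClosed_closure hmem
    have : w ∈ closure (T'.1 : Set (V : Scheme.{u})) := by
      rw [V.ι.isOpenEmbedding.isInducing.closure_eq_preimage_closure_image]
      exact h1
    exact T'.1.2.closure_subset this
  · rintro ⟨⟨w, hw, rfl⟩, hwT⟩
    exact ⟨w, ⟨hw, fun hmem => hwT (subset_closure ⟨subset_closure ⟨w, hmem, rfl⟩, w.2⟩)⟩, rfl⟩

variable (hZ : StableUnderSpecialization Z) (F : X.Modules)
include hZ

theorem closedOn_restrict_iff (W : (V : Scheme.{u}).Opens) :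
    ClosedOn (V.ι.base ⁻¹' Z) ((Scheme.Modules.restrictFunctor V.ι).obj F) W ↔
      ClosedOn Z F (V.ι ''ᵁ W) := by
  have key : ∀ T' : _root_.ZClos.Cl (V.ι.base ⁻¹' Z), Function.Bijective
      (res ((Scheme.Modules.restrictFunctor V.ι).obj F) (inf_le_left : W ⊓ T'.U ≤ W)) ↔
      Function.Bijective (res F (Scheme.Hom.image_mono V.ι (inf_le_left : W ⊓ T'.U ≤ W))) :=
    fun _ => Iff.rfl
  constructor
  · intro h T
    exact (bijective_res_congr _ (image_clRestrict V T W)).1 ((key _).1 (h (clRestrict V T)))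
  · intro h T'
    exact (key T').2 ((bijective_res_congr _ (image_clExtend V hZ T' W)).2 (h (clExtend V hZ T')))

theorem pureOn_restrict_iff (W : (V : Scheme.{u}).Opens) :
    PureOn (V.ι.base ⁻¹' Z) ((Scheme.Modules.restrictFunctor V.ι).obj F) W ↔
      PureOn Z F (V.ι ''ᵁ W) := by
  have key : ∀ T' : _root_.ZClos.Cl (V.ι.base ⁻¹' Z), Function.Injective
      (res ((Scheme.Modules.restrictFunctor V.ι).obj F) (inf_le_left : W ⊓ T'.U ≤ W)) ↔
      Function.Injective (res F (Scheme.Hom.image_mono V.ι (inf_le_left : W ⊓ T'.U ≤ W))) :=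
    fun _ => Iff.rfl
  constructor
  · intro h T
    exact (injective_res_congr _ (image_clRestrict V T W)).1 ((key _).1 (h (clRestrict V T)))
  · intro h T'
    exact (key T').2 ((injective_res_congr _ (image_clExtend V hZ T' W)).2 (h (clExtend V hZ T')))

end

end Groth.Agent.H18.ZClos
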