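import Groth.Agent.H18.ZClos.Support

/-!
# The closure only depends on the module outside `Z`
-/

set_option linter.style.haveILetI false

universe u

open CategoryTheory Limits AlgebraicGeometry Opposite TopologicalSpace
open Groth.Agent.Lib.QCoh.Localizing (res res_res res_self res_app)
open Groth.Agent.Lib.Modules.Stalk

namespace Groth.Agent.H18.ZClos

variable {X : Scheme.{u}} [IsLocallyNoetherian X] {Z : Set X}

/-- The closure turns maps bijective outside `Z` into isomorphisms. -/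
theorem isIso_H0_map (hZ : StableUnderSpecialization Z) {F G : X.Modules} (φ : F ⟶ G)
    (hφ : ∀ x : X, x ∉ Z → Function.Bijective ((stalkFunctor X x).map φ)) :
    IsIso ((_root_.ZClos.H0 Z).map φ) := by
  classical
  refine (isIso_iff_stalk_bijective _).2 fun x => ⟨(injective_iff_map_eq_zero _).2 fun z hz => ?_, fun z => ?_⟩
  · obtain ⟨T, V, hxV, s, rfl⟩ := exists_germ x z
    have h0 : ((_root_.ZClos.H0 Z).obj G).presheaf.germ V x hxV (ιsec Z G T V (φ.app _ s)) = 0 := by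
      rw [← map_ιsec φ T V s]
      exact (stalkFunctor_map_germ x ((_root_.ZClos.H0 Z).map φ) hxV _).symm.trans hz
    obtain ⟨T', hT, V', hxV', hV, hz'⟩ := (germ_eq_zero hxV _).1 h0
    obtain ⟨T'', hT''⟩ := exists_res_eq_zero hZ (res F (inf_U_anti Z hT hV) s) fun y hy hyZ => by
      refine (hφ y hyZ).1 (Eq.trans ?_ (map_zero _).symm)
      refine (stalkFunctor_map_germ y φ hy _).trans ?_
      rw [← res_app φ, hz']
      exact map_zero _
    refine (germ_eq_zero hxV _).2 ⟨T' ⊔ T'', hT.trans le_sup_left, V', hxV', hV, ?_⟩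
    have hle : V' ⊓ (T' ⊔ T'').U ≤ (V' ⊓ T'.U) ⊓ T''.U :=
      le_inf (inf_le_inf le_rfl (_root_.ZClos.Cl.U_anti le_sup_left))
        (inf_le_right.trans (_root_.ZClos.Cl.U_anti le_sup_right))
    have := congrArg (res F hle) hT''
    simp only [res_res, map_zero] at this ⊢
    exact this
  · obtain ⟨T, V₀, hxV₀, t₀, rfl⟩ := exists_germ x z
    obtain ⟨V, hVc, hxV, hV₀⟩ := exists_isCompact_nhd hxV₀
    let t := res G (inf_le_inf hV₀ le_rfl) t₀
    have hloc : ∀ y : {y : X // y ∈ V ⊓ T.U ∧ y ∉ Z}, ∃ (W : X.Opens) (hW : W ≤ V ⊓ T.U) (_ : y.1 ∈ W) (s : Γ(F, W)),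
        φ.app W s = res G hW t := by
      rintro ⟨y, hy, hyZ⟩
      obtain ⟨w, hw⟩ := (hφ y hyZ).2 (G.presheaf.germ _ y hy t)
      obtain ⟨W₁, hyW₁, s, rfl⟩ := TopCat.Presheaf.exists_germ_eq F.presheaf w
      have hw' : G.presheaf.germ W₁ y hyW₁ (φ.app W₁ s) = G.presheaf.germ _ y hy t :=
        (stalkFunctor_map_germ y φ hyW₁ s).symm.trans hw
      obtain ⟨W, hyW, i₁, i₂, he⟩ := TopCat.Presheaf.germ_eq G.presheaf y hyW₁ hy _ _ hw'
      refine ⟨W, i₂.le, hyW, res F i₁.le s, ?_⟩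
      rw [← res_app φ i₁.le]
      exact he
    choose W hW hyW s hs using hloc
    have hOc : IsCompact ((⨆ y, W y : X.Opens) : Set X) :=
      isCompact_of_le hVc (iSup_le fun y => (hW y).trans inf_le_left)
    obtain ⟨J, hJ⟩ := hOc.elim_finite_subcover (fun y => (W y : Set X)) (fun y => (W y).2) (by
      rw [Opens.coe_iSup])
    have hC : IsClosed ((⋃ y ∈ J, (W y : Set X))ᶜ) :=
      (isOpen_biUnion fun y _ => (W y).2).isClosed_compl
    have hCZ : (⋃ y ∈ J, (W y : Set X))ᶜ ∩ (V ⊓ T.U : X.Opens) ⊆ Z := by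
      rintro y ⟨hyC, hy⟩
      by_contra hyZ
      exact hyC (hJ (Opens.mem_iSup.2 ⟨⟨y, hy, hyZ⟩, hyW _⟩))
    have hov : ∀ p : J × J, ∃ T' : _root_.ZClos.Cl Z,
        res F (inf_le_left : (W p.1 ⊓ W p.2) ⊓ T'.U ≤ W p.1 ⊓ W p.2)
          (res F inf_le_left (s p.1.1) - res F inf_le_right (s p.2.1)) = 0 := fun p =>
      exists_res_eq_zero hZ _ fun y hy hyZ => by
        refine (hφ y hyZ).1 (Eq.trans ?_ (map_zero _).symm)
        refine (stalkFunctor_map_germ y φ hy _).trans ?_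
        rw [map_sub, ← res_app φ, ← res_app φ, hs, hs]
        simp only [t, res_res, sub_self]
        exact map_zero _
    choose Tp hTp using hov
    let T' : _root_.ZClos.Cl Z := T ⊔ clOf hZ hC (V ⊓ T.U) hCZ ⊔ Finset.univ.sup Tp
    have hTT : T ≤ T' := le_sup_left.trans le_sup_left
    let U : J → X.Opens := fun y => W y ⊓ T'.U
    obtain ⟨a, ha, -⟩ := TopCat.Sheaf.existsUnique_gluing' (⟨F.presheaf, F.isSheaf⟩ : TopCat.Sheaf AddCommGrpCat.{u} X)
      U (V ⊓ T'.U) (fun y => homOfLE (inf_le_inf ((hW y).trans inf_le_left) le_rfl))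
      (fun y hy => by
        have h1 : y ∈ (V ⊓ T.U) ⊓ (clOf hZ hC (V ⊓ T.U) hCZ).U :=
          ⟨⟨hy.1, _root_.ZClos.Cl.U_anti hTT hy.2⟩,
            _root_.ZClos.Cl.U_anti (le_sup_right.trans le_sup_left : clOf hZ hC (V ⊓ T.U) hCZ ≤ T') hy.2⟩
        obtain ⟨y', hy'J, hy'⟩ := Set.mem_iUnion₂.1 (not_not.1 (clOf_inf_U hZ hC (V ⊓ T.U) hCZ h1))
        exact Opens.mem_iSup.2 ⟨⟨y', hy'J⟩, hy', hy.2⟩)
      (fun y => res F inf_le_left (s y.1))
      (fun y y' => by
        change res F (inf_le_left : U y ⊓ U y' ≤ U y) (res F inf_le_left (s y.1)) =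
          res F (inf_le_right : U y ⊓ U y' ≤ U y') (res F inf_le_left (s y'.1))
        have hz : U y ⊓ U y' ≤ (W y ⊓ W y') ⊓ (Tp (y, y')).U :=
          le_inf (inf_le_inf inf_le_left inf_le_left) ((inf_le_left.trans inf_le_right).trans
            (_root_.ZClos.Cl.U_anti ((Finset.le_sup (Finset.mem_univ (y, y'))).trans le_sup_right)))
        have := congrArg (res F hz) (hTp (y, y'))
        simp only [map_sub, res_res, map_zero, sub_eq_zero] at this
        rw [res_res, res_res]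
        exact this)
    refine ⟨((_root_.ZClos.H0 Z).obj F).presheaf.germ V x hxV (ιsec Z F T' V a), ?_⟩
    refine (stalkFunctor_map_germ x ((_root_.ZClos.H0 Z).map φ) hxV _).trans ?_
    rw [map_ιsec, ← germ_res hV₀ hxV (ιsec Z G T V₀ t₀), ιsec_res]
    have : φ.app _ a = res G (inf_U_anti Z hTT le_rfl) t := by
      rw [← sub_eq_zero]
      refine eq_zero_of_forall _ fun y hy => ?_
      have h1 : y ∈ (V ⊓ T.U) ⊓ (clOf hZ hC (V ⊓ T.U) hCZ).U :=
        ⟨⟨hy.1, _root_.ZClos.Cl.U_anti hTT hy.2⟩,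
          _root_.ZClos.Cl.U_anti (le_sup_right.trans le_sup_left : clOf hZ hC (V ⊓ T.U) hCZ ≤ T') hy.2⟩
      obtain ⟨y', hy'J, hy'⟩ := Set.mem_iUnion₂.1 (not_not.1 (clOf_inf_U hZ hC (V ⊓ T.U) hCZ h1))
      refine ⟨U ⟨y', hy'J⟩, inf_le_inf ((hW y').trans inf_le_left) le_rfl, ⟨hy', hy.2⟩, ?_⟩
      have ha' : res F (inf_le_inf ((hW y').trans inf_le_left) le_rfl : U ⟨y', hy'J⟩ ≤ V ⊓ T'.U) a =
          res F inf_le_left (s y') := ha ⟨y', hy'J⟩
      rw [map_sub, res_app, ha', ← res_app, hs]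
      simp only [t, res_res, sub_self]
    rw [this, ιsec_mono hTT]

/-- A closed module receiving a map bijective outside `Z` is the closure of the source. -/
theorem nonempty_iso_H0 (hZ : StableUnderSpecialization Z) {F G : X.Modules} (φ : F ⟶ G)
    (hφ : ∀ x : X, x ∉ Z → Function.Bijective ((stalkFunctor X x).map φ))
    (hG : _root_.ZClos.IsZClosed Z G) : Nonempty (G ≅ (_root_.ZClos.H0 Z).obj F) := by
  haveI := isIso_H0_map hZ φ hφ
  haveI : IsIso (_root_.ZClos.rhoApp Z G) := hG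
  exact ⟨asIso (_root_.ZClos.rhoApp Z G) ≪≫ (asIso ((_root_.ZClos.H0 Z).map φ)).symm⟩

end Groth.Agent.H18.ZClos
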