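import Groth.Agent.H18.Sec.Closed
import Groth.Agent.H18.Sec.Coh
import Groth.Agent.H18.ZClos.Universal
import Groth.Agent.Lib.CechRes.PullSec
import Groth.Agent.Lib.Flat55.FlatFunSheaf

/-!
# Flat base change of the closure
-/

set_option linter.style.haveILetI false

universe u

open CategoryTheory Limits AlgebraicGeometry Opposite TopologicalSpace
open Groth.Agent.Lib.QCoh.Localizing (res res_res res_app)
open Groth.Agent.Lib.Modules.Stalk

namespace Groth.Agent.H18.ZClos

open H18.Sec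

variable {X : Scheme.{u}} [IsLocallyNoetherian X] {Z : Set X}

/-- Sections of a closure form a closed module. -/
theorem isClosedOn_H0 (hZ : StableUnderSpecialization Z) (F : X.Modules) [F.IsQuasicoherent] {W : X.Opens}
    (hW : IsAffineOpen W) : IsClosedOn (outside Z hW) Γ((_root_.ZClos.H0 Z).obj F, W) := by
  haveI := IsLocallyNoetherian.component_noetherian (X := X) ⟨W, hW⟩
  obtain ⟨e⟩ := exists_sectionsEquiv (F := F) hZ hW
  have hG := fun y z => outside_generize hZ hW y z
  exact isClosedOn_of_homMap hG fun p hp hpG => homMap_bijective_congr e.symm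
    (homMap_bijective_sec fun y hy hle => hpG (hG ⟨p, hp⟩ y hle hy))

theorem bijective_rho_of_closedOn (hZ : StableUnderSpecialization Z) {G : X.Modules} [G.IsQuasicoherent]
    {W : X.Opens} (hW : IsAffineOpen W) (h : IsClosedOn (outside Z hW) Γ(G, W)) :
    Function.Bijective ((_root_.ZClos.rhoApp Z G).app W) := by
  obtain ⟨E, hE⟩ := exists_sectionsEquiv_rho (F := G) hZ hW
  have : ∀ m, (_root_.ZClos.rhoApp Z G).app W m = E.symm ⟨germs _ _ m, germs_mem m⟩ := fun m => by
    rw [LinearEquiv.eq_symm_apply]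
    exact Subtype.ext (hE m)
  refine ⟨fun a b hab => h.1 (E.symm.injective ?_), fun σ => ?_⟩
  · rw [← this, ← this]; exact hab
  · obtain ⟨m, hm⟩ := h.2 (E σ)
    exact ⟨m, by rw [this, show (⟨germs _ _ m, germs_mem m⟩ : Sec (outside Z hW) Γ(G, W)) = E σ from hm,
      LinearEquiv.symm_apply_apply]⟩

omit [IsLocallyNoetherian X] in
/-- Bijectivity on a basis of affine opens. -/
theorem isIso_of_basis {F G : X.Modules} (φ : F ⟶ G)
    (h : ∀ (x : X) (V : X.Opens), x ∈ V → ∃ W : X.Opens, x ∈ W ∧ W ≤ V ∧ Function.Bijective (φ.app W)) :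
    IsIso φ := by
  refine (isIso_iff_stalk_bijective _).2 fun x => ⟨(injective_iff_map_eq_zero _).2 fun z hz => ?_, fun z => ?_⟩
  · obtain ⟨V, hxV, t, rfl⟩ := TopCat.Presheaf.exists_germ_eq F.presheaf z
    have h0 : G.presheaf.germ V x hxV (φ.app V t) = 0 := (stalkFunctor_map_germ x φ hxV t).symm.trans hz
    obtain ⟨W₁, hW₁, hxW₁, hz₁⟩ := exists_nhd_of_germ_eq_zero hxV h0
    obtain ⟨W, hxW, hW, hb⟩ := h x W₁ hxW₁
    rw [← germ_res (hW.trans hW₁) hxW t]
    have : res F (hW.trans hW₁) t = 0 := hb.1 (by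
      rw [map_zero, ← res_app φ, ← res_res hW₁ hW, hz₁, map_zero])
    rw [this]
    exact map_zero _
  · obtain ⟨V, hxV, t, rfl⟩ := TopCat.Presheaf.exists_germ_eq G.presheaf z
    obtain ⟨W, hxW, hW, hb⟩ := h x V hxV
    obtain ⟨s, hs⟩ := hb.2 (res G hW t)
    refine ⟨F.presheaf.germ W x hxW s, (stalkFunctor_map_germ x φ hxW s).trans ?_⟩
    rw [hs, germ_res]

/-- The inverse image of a closure along a flat morphism is closed. -/
theorem isZClosed_pullback_H0 {X' : Scheme.{u}} [IsLocallyNoetherian X'] (f : X' ⟶ X) [Flat f]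
    (hZ : StableUnderSpecialization Z) (F : X.Modules) [F.IsQuasicoherent] :
    _root_.ZClos.IsZClosed (f.base ⁻¹' Z) ((Scheme.Modules.pullback f).obj ((_root_.ZClos.H0 Z).obj F)) := by
  have hZ' : StableUnderSpecialization (f.base ⁻¹' Z) := fun a b hab ha => hZ (hab.map f.continuous) ha
  haveI := isQCoh_H0 (Z := Z) (F := F)
  haveI := Lib.QCoh.Pullback.isQCoh_pullback f ((_root_.ZClos.H0 Z).obj F)
  refine isIso_of_basis _ fun x V hxV => ?_
  obtain ⟨W, hW, hxW, -⟩ := exists_isAffineOpen_mem_and_subset (X := X) (x := f x) (U := ⊤) trivial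
  obtain ⟨W', hW', hxW', hle⟩ := exists_isAffineOpen_mem_and_subset (X := X') (x := x) (U := V ⊓ f ⁻¹ᵁ W)
    ⟨hxV, hxW⟩
  have e : W' ≤ f ⁻¹ᵁ W := fun y hy => (hle hy).2
  refine ⟨W', hxW', fun y hy => (hle hy).1, bijective_rho_of_closedOn hZ' hW' ?_⟩
  haveI := IsLocallyNoetherian.component_noetherian (X := X) ⟨W, hW⟩
  haveI := IsLocallyNoetherian.component_noetherian (X := X') ⟨W', hW'⟩
  letI : Algebra Γ(X, W) Γ(X', W') := (f.appLE W W' e).hom.toAlgebra
  letI : Module Γ(X, W) Γ((Scheme.Modules.pullback f).obj ((_root_.ZClos.H0 Z).obj F), W') :=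
    Module.compHom _ (f.appLE W W' e).hom
  haveI : IsScalarTower Γ(X, W) Γ(X', W') Γ((Scheme.Modules.pullback f).obj ((_root_.ZClos.H0 Z).obj F), W') :=
    IsScalarTower.of_algebraMap_smul fun _ _ => rfl
  haveI : Module.Flat Γ(X, W) Γ(X', W') := f.flat_appLE hW hW' e
  have hbc := Lib.CechRes.PullSec.isBaseChange_mu f ((_root_.ZClos.H0 Z).obj F) hW hW' e
  refine isClosedOn_baseChange Γ(X', W') hbc (fun y z => outside_generize hZ hW y z) (fun q => ?_)
    (isClosedOn_H0 hZ F hW)
  show f.base (hW'.fromSpec q) ∉ Z ↔ hW.fromSpec (PrimeSpectrum.comap (f.appLE W W' e).hom q) ∉ Z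
  rw [show f.base (hW'.fromSpec q) = hW.fromSpec (PrimeSpectrum.comap (f.appLE W W' e).hom q) from
    (congrArg (fun k : Spec Γ(X', W') ⟶ X => k.base q)
      (IsAffineOpen.SpecMap_appLE_fromSpec f hW hW' e)).symm]

/-- The inverse image of the canonical map is bijective outside `Z`. -/
theorem pullback_rho_bijective {X' : Scheme.{u}} (f : X' ⟶ X) [Flat f] (F : X.Modules) (x : X')
    (hx : f x ∉ Z) :
    Function.Bijective ((stalkFunctor X' x).map ((Scheme.Modules.pullback f).map (_root_.ZClos.rhoApp Z F))) := by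
  have hb := isZClosedAt_of_notMem (F := F) hx
  have hfl : (f.stalkMap x).hom.Flat := Flat.stalkMap f x
  exact ⟨(Lib.Flat55.FlatFunSheaf.injective_pullback f (_root_.ZClos.rhoApp Z F) x hfl).2 hb.1,
    (Lib.Flat55.FlatFunSheaf.surjective_pullback f (_root_.ZClos.rhoApp Z F) x hfl).2 hb.2⟩

theorem nonempty_pullback_H0_iso {X' : Scheme.{u}} [IsLocallyNoetherian X'] (f : X' ⟶ X) [Flat f]
    (hZ : StableUnderSpecialization Z) (F : X.Modules) [F.IsQuasicoherent] :
    Nonempty ((Scheme.Modules.pullback f).obj ((_root_.ZClos.H0 Z).obj F) ≅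
      (_root_.ZClos.H0 (f.base ⁻¹' Z)).obj ((Scheme.Modules.pullback f).obj F)) :=
  nonempty_iso_H0 (X := X') (Z := f.base ⁻¹' Z) (fun a b hab ha => hZ (hab.map f.continuous) ha)
    ((Scheme.Modules.pullback f).map (_root_.ZClos.rhoApp Z F))
    (fun x hx => pullback_rho_bijective f F x hx) (isZClosed_pullback_H0 f hZ F)

end Groth.Agent.H18.ZClos
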