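import Groth.Prelude.Def_ZClos
import Groth.Agent.Lib.Modules.Stalk
import Groth.Agent.Lib.QCoh.Localizing
import Mathlib.CategoryTheory.Limits.ConcreteCategory.Basic
import Mathlib.Algebra.Category.Grp.FilteredColimits
import Mathlib.AlgebraicGeometry.Noetherian

/-!
# Sections and germs of the `Z`-closure

`ιsec Z F T V` sends a section of `F` over `V ⊓ T.U` to the section of `H⁰_{X/Z}(F)` over `V` it defines.
Every germ is of this form (`exists_germ`), and such a germ vanishes iff the section vanishes after enlarging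
`T` and shrinking `V` (`germ_eq_zero`). Over a quasi-compact open of a locally Noetherian scheme the same holds
for sections (`exists_rep`, `ιsec_eq_zero`).
-/

universe u

open CategoryTheory Limits AlgebraicGeometry Opposite TopologicalSpace
open Groth.Agent.Lib.QCoh.Localizing (res res_res res_self res_app)
open Groth.Agent.Lib.Modules.Stalk

namespace Groth.Agent.H18.ZClos

noncomputable section

variable {X : Scheme.{u}} (Z : Set X) (F : X.Modules)

lemma img_le (U V : X.Opens) : U.ι ''ᵁ U.ι ⁻¹ᵁ V ≤ V ⊓ U := by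
  rw [_root_.ZClos.ι_image_preimage, inf_comm]

lemma le_img (U V : X.Opens) : V ⊓ U ≤ U.ι ''ᵁ U.ι ⁻¹ᵁ V := by
  rw [_root_.ZClos.ι_image_preimage, inf_comm]

lemma inf_U_anti {T T' : _root_.ZClos.Cl Z} (h : T ≤ T') {V V' : X.Opens} (hV : V' ≤ V) :
    V' ⊓ T'.U ≤ V ⊓ T.U :=
  inf_le_inf hV (_root_.ZClos.Cl.U_anti h)

/-- The section of the closure over `V` defined by a section over `V ⊓ T.U`. -/
def ιsec (T : _root_.ZClos.Cl Z) (V : X.Opens) :
    Γ(F, V ⊓ T.U) →+ Γ((_root_.ZClos.H0 Z).obj F, V) :=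
  ((colimit.ι ((_root_.ZClos.diagram Z).obj F) T).app V).hom.comp (res F (img_le T.U V))

variable {Z F}

lemma ιsec_res (T : _root_.ZClos.Cl Z) {V V' : X.Opens} (h : V' ≤ V) (s : Γ(F, V ⊓ T.U)) :
    res _ h (ιsec Z F T V s) = ιsec Z F T V' (res F (inf_le_inf h le_rfl) s) := by
  refine (res_app (colimit.ι ((_root_.ZClos.diagram Z).obj F) T) h (res F (img_le T.U V) s)).trans ?_
  change (colimit.ι ((_root_.ZClos.diagram Z).obj F) T).app V' _ =
    (colimit.ι ((_root_.ZClos.diagram Z).obj F) T).app V' _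
  congr 1
  exact (res_res (M := F) (img_le T.U V) (Scheme.Hom.image_mono _ (Scheme.Hom.preimage_mono _ h)) s).trans
    (res_res (M := F) _ _ s).symm

lemma ιsec_mono {T T' : _root_.ZClos.Cl Z} (h : T ≤ T') (V : X.Opens) (s : Γ(F, V ⊓ T.U)) :
    ιsec Z F T' V (res F (inf_U_anti Z h le_rfl) s) = ιsec Z F T V s := by
  have hw := colimit.w ((_root_.ZClos.diagram Z).obj F) (homOfLE h)
  have e : (colimit.ι ((_root_.ZClos.diagram Z).obj F) T).app V =
      (((_root_.ZClos.diagram Z).obj F).map (homOfLE h)).app V ≫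
        (colimit.ι ((_root_.ZClos.diagram Z).obj F) T').app V := by
    rw [← Scheme.Modules.Hom.comp_app, hw]
  change (colimit.ι ((_root_.ZClos.diagram Z).obj F) T').app V _ =
    (colimit.ι ((_root_.ZClos.diagram Z).obj F) T).app V _
  rw [e]
  refine congrArg ((colimit.ι ((_root_.ZClos.diagram Z).obj F) T').app V) ?_
  change _ = (_root_.ZClos.resPushMapApp (_root_.ZClos.Cl.U_anti h) F).app V (res F (img_le T.U V) s)
  rw [_root_.ZClos.resPushMapApp_app]
  exact (res_res _ _ s).trans (res_res _ _ s).symm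

lemma rho_ιsec (T : _root_.ZClos.Cl Z) (V : X.Opens) (t : Γ(F, V)) :
    (_root_.ZClos.rhoApp Z F).app V t = ιsec Z F T V (res F inf_le_left t) := by
  rw [_root_.ZClos.rhoApp_eq Z F T]
  refine congrArg ((colimit.ι ((_root_.ZClos.diagram Z).obj F) T).app V) ?_
  exact (res_res (M := F) inf_le_left (img_le T.U V) t).symm

lemma map_ιsec {G : X.Modules} (φ : F ⟶ G) (T : _root_.ZClos.Cl Z) (V : X.Opens)
    (s : Γ(F, V ⊓ T.U)) :
    ((_root_.ZClos.H0 Z).map φ).app V (ιsec Z F T V s) = ιsec Z G T V (φ.app _ s) := by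
  have h : colimit.ι ((_root_.ZClos.diagram Z).obj F) T ≫ (_root_.ZClos.H0 Z).map φ =
      (_root_.ZClos.resPush T.U).map φ ≫ colimit.ι ((_root_.ZClos.diagram Z).obj G) T :=
    ι_colimMap ((_root_.ZClos.diagram Z).map φ) T
  have e := congrArg (fun f => Scheme.Modules.Hom.app f V (res F (img_le T.U V) s)) h
  simp only at e
  refine e.trans ?_
  refine congrArg ((colimit.ι ((_root_.ZClos.diagram Z).obj G) T).app V) ?_
  exact (res_app φ (img_le T.U V) s).symm

/-- Every germ of the closure comes from a section of `F` off a closed subset of `Z`. -/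
theorem exists_germ (x : X) (z : ((_root_.ZClos.H0 Z).obj F).presheaf.stalk x) :
    ∃ (T : _root_.ZClos.Cl Z) (V : X.Opens) (hx : x ∈ V) (s : Γ(F, V ⊓ T.U)),
      ((_root_.ZClos.H0 Z).obj F).presheaf.germ V x hx (ιsec Z F T V s) = z := by
  obtain ⟨T, y, rfl⟩ := Concrete.isColimit_exists_rep (C := AddCommGrpCat.{u})
    (((_root_.ZClos.diagram Z).obj F) ⋙ stalkFunctor X x)
    (isColimitOfPreserves (stalkFunctor X x) (colimit.isColimit ((_root_.ZClos.diagram Z).obj F))) z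
  obtain ⟨V, hx, t, rfl⟩ := TopCat.Presheaf.exists_germ_eq (((_root_.ZClos.diagram Z).obj F).obj T).presheaf y
  refine ⟨T, V, hx, res F (le_img T.U V) t, ?_⟩
  refine Eq.trans ?_ (stalkFunctor_map_germ x (colimit.ι ((_root_.ZClos.diagram Z).obj F) T) hx t).symm
  refine congrArg (fun u => ((_root_.ZClos.H0 Z).obj F).presheaf.germ V x hx u) ?_
  refine congrArg ((colimit.ι ((_root_.ZClos.diagram Z).obj F) T).app V) ?_
  exact (res_res (M := F) (le_img T.U V) (img_le T.U V) t).trans (res_self (M := F) (U := T.U.ι ''ᵁ T.U.ι ⁻¹ᵁ V) le_rfl t)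

/-- The vanishing criterion for germs. -/
theorem germ_eq_zero {x : X} {T : _root_.ZClos.Cl Z} {V : X.Opens} (hx : x ∈ V) (s : Γ(F, V ⊓ T.U)) :
    ((_root_.ZClos.H0 Z).obj F).presheaf.germ V x hx (ιsec Z F T V s) = 0 ↔
      ∃ (T' : _root_.ZClos.Cl Z) (hT : T ≤ T') (V' : X.Opens) (_ : x ∈ V') (hV : V' ≤ V),
        res F (inf_U_anti Z hT hV) s = 0 := by
  constructor
  · intro h
    have hc := isColimitOfPreserves (stalkFunctor X x) (colimit.isColimit ((_root_.ZClos.diagram Z).obj F))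
    let y := (((_root_.ZClos.diagram Z).obj F).obj T).presheaf.germ V x hx (res F (img_le T.U V) s)
    have e : (stalkFunctor X x).map (colimit.ι ((_root_.ZClos.diagram Z).obj F) T) y =
        (stalkFunctor X x).map (colimit.ι ((_root_.ZClos.diagram Z).obj F) T) 0 := by
      rw [map_zero]
      exact (stalkFunctor_map_germ x _ hx _).trans h
    obtain ⟨T', f, g, hfg⟩ := Concrete.isColimit_exists_of_rep_eq (C := AddCommGrpCat.{u})
      (((_root_.ZClos.diagram Z).obj F) ⋙ stalkFunctor X x) hc y 0 e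
    rw [map_zero] at hfg
    have h2 : (((_root_.ZClos.diagram Z).obj F).obj T').presheaf.germ V x hx
        ((((_root_.ZClos.diagram Z).obj F).map f).app V (res F (img_le T.U V) s)) = 0 :=
      (stalkFunctor_map_germ x _ hx _).symm.trans hfg
    obtain ⟨W, hxW, i₁, i₂, hW⟩ := TopCat.Presheaf.germ_eq _ x hx hx _ 0 (h2.trans (map_zero _).symm)
    rw [map_zero] at hW
    refine ⟨T', f.le, W, hxW, i₁.le, ?_⟩
    have hW' : res F (Scheme.Hom.image_mono _ (Scheme.Hom.preimage_mono _ i₁.le))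
        ((_root_.ZClos.resPushMapApp (_root_.ZClos.Cl.U_anti f.le) F).app V (res F (img_le T.U V) s)) = 0 := hW
    rw [_root_.ZClos.resPushMapApp_app] at hW'
    have := congrArg (res F (le_img T'.U W)) hW'
    rw [map_zero] at this
    refine Eq.trans ?_ this
    exact (((res_res _ _ _).trans (res_res _ _ _)).trans (res_res _ _ _)).symm
  · rintro ⟨T', hT, V', hx', hV, h⟩
    rw [← ιsec_mono hT V s]
    have e := TopCat.Presheaf.germ_res_apply ((_root_.ZClos.H0 Z).obj F).presheaf (homOfLE hV) x hx'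
      (ιsec Z F T' V (res F (inf_U_anti Z hT le_rfl) s))
    refine e.symm.trans ?_
    change ((_root_.ZClos.H0 Z).obj F).presheaf.germ V' x hx' (res ((_root_.ZClos.H0 Z).obj F) hV _) = 0
    rw [ιsec_res, res_res, h, map_zero, map_zero]

section Noetherian

variable [IsLocallyNoetherian X]

lemma isCompact_of_le {V W : X.Opens} (hV : IsCompact (V : Set X)) (h : W ≤ V) :
    IsCompact (W : Set X) := by
  haveI : CompactSpace (V : Scheme.{u}) := isCompact_iff_compactSpace.mp hV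
  haveI : IsNoetherian (V : Scheme.{u}) := {}
  have hN : NoetherianSpace (↥(V : Set X)) := inferInstanceAs (NoetherianSpace (V : Scheme.{u}))
  exact (noetherianSpace_set_iff _).mp hN _ h

omit [IsLocallyNoetherian X] in
lemma exists_isCompact_nhd {x : X} {V : X.Opens} (hx : x ∈ V) :
    ∃ W : X.Opens, IsCompact (W : Set X) ∧ x ∈ W ∧ W ≤ V := by
  obtain ⟨W, hW, hxW, hle⟩ := Opens.isBasis_iff_nbhd.mp X.isBasis_affineOpens hx
  exact ⟨W, (hW : IsAffineOpen W).isCompact, hxW, hle⟩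

omit [IsLocallyNoetherian X] in
/-- A section of `F` off a closed subset of `Z`, over a quasi-compact open, dies in the closure only if it
dies off a larger closed subset. -/
theorem ιsec_eq_zero {T : _root_.ZClos.Cl Z} {V : X.Opens} (hV : IsCompact (V : Set X))
    (s : Γ(F, V ⊓ T.U)) (h : ιsec Z F T V s = 0) :
    ∃ (T' : _root_.ZClos.Cl Z) (hT : T ≤ T'), res F (inf_U_anti Z hT le_rfl) s = 0 := by
  classical
  have hloc : ∀ x : V, ∃ (T' : _root_.ZClos.Cl Z) (hT : T ≤ T') (V' : X.Opens) (_ : x.1 ∈ V')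
      (hV' : V' ≤ V), res F (inf_U_anti Z hT hV') s = 0 := fun x =>
    (germ_eq_zero x.2 s).1 (by rw [h, map_zero])
  choose T' hT V' hx hV' hz using hloc
  obtain ⟨J, hJ⟩ := hV.elim_finite_subcover (fun x => (V' x : Set X)) (fun x => (V' x).2)
    fun x hx' => Set.mem_iUnion.2 ⟨⟨x, hx'⟩, hx ⟨x, hx'⟩⟩
  let T'' := T ⊔ J.sup T'
  have hTT : T ≤ T'' := le_sup_left
  have hle : ∀ x ∈ J, T' x ≤ T'' := fun x hx' => (Finset.le_sup hx').trans le_sup_right
  refine ⟨T'', hTT, ?_⟩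
  refine TopCat.Sheaf.eq_of_locally_eq' (⟨F.presheaf, F.isSheaf⟩ : TopCat.Sheaf AddCommGrpCat.{u} X)
    (fun x : J => V' x.1 ⊓ T''.U) (V ⊓ T''.U) (fun x => homOfLE (inf_le_inf (hV' x.1) le_rfl))
    (fun p hp => ?_) _ _ fun x => ?_
  · obtain ⟨x, hxJ, hpx⟩ := Set.mem_iUnion₂.1 (hJ hp.1)
    exact Opens.mem_iSup.2 ⟨⟨x, hxJ⟩, hpx, hp.2⟩
  · change res F _ (res F _ s) = res F _ 0
    rw [map_zero, res_res, ← res_res (inf_U_anti Z (hT x.1) (hV' x.1))
      (inf_U_anti Z (hle x.1 x.2) le_rfl) s, hz x.1, map_zero]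

/-- Over a quasi-compact open every section of the closure comes from a section of `F` off a closed
subset of `Z`. -/
theorem exists_rep {V : X.Opens} (hV : IsCompact (V : Set X)) (σ : Γ((_root_.ZClos.H0 Z).obj F, V)) :
    ∃ (T : _root_.ZClos.Cl Z) (s : Γ(F, V ⊓ T.U)), ιsec Z F T V s = σ := by
  classical
  -- local representatives
  have hloc : ∀ x : V, ∃ (T : _root_.ZClos.Cl Z) (W : X.Opens) (_ : x.1 ∈ W) (hW : W ≤ V)
      (s : Γ(F, W ⊓ T.U)), ιsec Z F T W s = res _ hW σ := by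
    intro x
    obtain ⟨T, W, hxW, s, hs⟩ := exists_germ x.1
      (((_root_.ZClos.H0 Z).obj F).presheaf.germ V x.1 x.2 σ)
    obtain ⟨W', hxW', i₁, i₂, he⟩ := TopCat.Presheaf.germ_eq _ x.1 hxW x.2 _ _ hs
    exact ⟨T, W', hxW', i₂.le, res F (inf_le_inf i₁.le le_rfl) s,
      (ιsec_res T i₁.le s).symm.trans he⟩
  choose T W hxW hW s hs using hloc
  obtain ⟨J, hJ⟩ := hV.elim_finite_subcover (fun x => (W x : Set X)) (fun x => (W x).2)
    fun x hx' => Set.mem_iUnion.2 ⟨⟨x, hx'⟩, hxW ⟨x, hx'⟩⟩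
  let T₁ := J.sup T
  have hle₁ : ∀ x ∈ J, T x ≤ T₁ := fun x hx' => Finset.le_sup hx'
  -- agreement on overlaps after enlarging
  have hag : ∀ p : J × J, ∃ (T' : _root_.ZClos.Cl Z) (hT : T₁ ≤ T'),
      res F (inf_U_anti Z ((hle₁ p.1.1 p.1.2).trans hT) (inf_le_left : W p.1.1 ⊓ W p.2.1 ≤ W p.1.1))
          (s p.1.1) =
        res F (inf_U_anti Z ((hle₁ p.2.1 p.2.2).trans hT) (inf_le_right : W p.1.1 ⊓ W p.2.1 ≤ W p.2.1))
          (s p.2.1) := by
    intro p
    let d : Γ(F, (W p.1.1 ⊓ W p.2.1) ⊓ T₁.U) :=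
      res F (inf_U_anti Z (hle₁ p.1.1 p.1.2) inf_le_left) (s p.1.1) -
        res F (inf_U_anti Z (hle₁ p.2.1 p.2.2) inf_le_right) (s p.2.1)
    have hd : ιsec Z F T₁ _ d = 0 := by
      have e : ∀ (x : V) (hx : x ∈ J) (W₀ : X.Opens) (h₀ : W₀ ≤ W x),
          ιsec Z F T₁ W₀ (res F (inf_U_anti Z (hle₁ x hx) h₀) (s x)) = res _ (h₀.trans (hW x)) σ := by
        intro x hx W₀ h₀
        rw [← res_res (inf_le_inf h₀ le_rfl) (inf_U_anti Z (hle₁ x hx) le_rfl), ιsec_mono (hle₁ x hx),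
          ← ιsec_res (T x) h₀ (s x), hs x, res_res]
      simp only [d, map_sub]
      rw [e _ p.1.2 _ inf_le_left, e _ p.2.2 _ inf_le_right, sub_self]
    obtain ⟨T', hT, h'⟩ := ιsec_eq_zero (isCompact_of_le hV (inf_le_left.trans (hW p.1.1))) d hd
    refine ⟨T', hT, ?_⟩
    simp only [d, map_sub, res_res, sub_eq_zero] at h'
    exact h'
  choose T' hT' hagree using hag
  let T₂ := T₁ ⊔ Finset.univ.sup T'
  have hle₂ : ∀ p, T' p ≤ T₂ := fun p => (Finset.le_sup (Finset.mem_univ p)).trans le_sup_right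
  have hT₁₂ : T₁ ≤ T₂ := le_sup_left
  -- glue
  let G : TopCat.Sheaf AddCommGrpCat.{u} X := ⟨F.presheaf, F.isSheaf⟩
  let U : J → X.Opens := fun x => W x.1 ⊓ T₂.U
  let sf : ∀ x : J, Γ(F, U x) := fun x =>
    res F (inf_U_anti Z ((hle₁ x.1 x.2).trans hT₁₂) le_rfl) (s x.1)
  obtain ⟨t, ht, -⟩ := TopCat.Sheaf.existsUnique_gluing' G U (V ⊓ T₂.U)
    (fun x => homOfLE (inf_le_inf (hW x.1) le_rfl))
    (fun p hp => by
      obtain ⟨x, hxJ, hpx⟩ := Set.mem_iUnion₂.1 (hJ hp.1)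
      exact Opens.mem_iSup.2 ⟨⟨x, hxJ⟩, hpx, hp.2⟩) sf
    (fun x y => by
      change res F (inf_le_left : U x ⊓ U y ≤ U x) (sf x) = res F (inf_le_right : U x ⊓ U y ≤ U y) (sf y)
      simp only [sf, res_res]
      have hz : U x ⊓ U y ≤ (W x.1 ⊓ W y.1) ⊓ (T' (x, y)).U :=
        le_inf (inf_le_inf inf_le_left inf_le_left)
          (inf_le_left.trans (inf_le_right.trans (_root_.ZClos.Cl.U_anti (hle₂ (x, y)))))
      have := congrArg (res F hz) (hagree (x, y))
      simpa only [res_res] using this)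
  refine ⟨T₂, t, ?_⟩
  refine TopCat.Sheaf.eq_of_locally_eq'
    (⟨((_root_.ZClos.H0 Z).obj F).presheaf, ((_root_.ZClos.H0 Z).obj F).isSheaf⟩ :
      TopCat.Sheaf AddCommGrpCat.{u} X)
    (fun x : J => W x.1) V (fun x => homOfLE (hW x.1))
    (fun p hp => by
      obtain ⟨x, hxJ, hpx⟩ := Set.mem_iUnion₂.1 (hJ hp)
      exact Opens.mem_iSup.2 ⟨⟨x, hxJ⟩, hpx⟩) _ _ fun x => ?_
  change res _ (hW x.1) (ιsec Z F T₂ V t) = res _ (hW x.1) σ
  have htx : res F (inf_le_inf (hW x.1) le_rfl) t = sf x := ht x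
  rw [ιsec_res, htx, ← hs x.1]
  exact ιsec_mono ((hle₁ x.1 x.2).trans hT₁₂) _ _

end Noetherian

end

end Groth.Agent.H18.ZClos
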