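import Groth.Agent.H18.ZClos.Basic
import Groth.Agent.Lib.QCoh.Closure
import Mathlib.Topology.Sober
import Mathlib.Topology.NoetherianSpace

/-!
# Purity, closedness and the universal property of the `Z`-closure
-/

universe u

open CategoryTheory Limits AlgebraicGeometry Opposite TopologicalSpace
open Groth.Agent.Lib.QCoh.Localizing (res res_res res_self res_app)
open Groth.Agent.Lib.Modules.Stalk

namespace Groth.Agent.H18.ZClos

noncomputable section

variable {X : Scheme.{u}} {Z : Set X} {F : X.Modules}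

lemma eq_zero_of_forall {G : X.Modules} {V : X.Opens} (t : Γ(G, V))
    (h : ∀ x ∈ V, ∃ (W : X.Opens) (hW : W ≤ V), x ∈ W ∧ res G hW t = 0) : t = 0 := by
  refine TopCat.Presheaf.section_ext (⟨G.presheaf, G.isSheaf⟩ : TopCat.Sheaf AddCommGrpCat.{u} X)
    V _ _ fun x hx => ?_
  obtain ⟨W, hW, hxW, hz⟩ := h x hx
  have e := TopCat.Presheaf.germ_res_apply G.presheaf (homOfLE hW) x hxW t
  change G.presheaf.germ V x hx t = G.presheaf.germ V x hx 0
  rw [map_zero, ← e]
  change G.presheaf.germ W x hxW (res G hW t) = 0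
  rw [hz, map_zero]

lemma germ_res {G : X.Modules} {V W : X.Opens} (h : W ≤ V) {x : X} (hx : x ∈ W) (t : Γ(G, V)) :
    G.presheaf.germ W x hx (res G h t) = G.presheaf.germ V x (h hx) t :=
  TopCat.Presheaf.germ_res_apply G.presheaf (homOfLE h) x hx t

lemma exists_nhd_of_germ_eq_zero {G : X.Modules} {V : X.Opens} {x : X} (hx : x ∈ V) {t : Γ(G, V)}
    (h : G.presheaf.germ V x hx t = 0) : ∃ (W : X.Opens) (hW : W ≤ V), x ∈ W ∧ res G hW t = 0 := by
  obtain ⟨W, hxW, i₁, i₂, e⟩ := TopCat.Presheaf.germ_eq G.presheaf x hx hx t 0 (by rw [h, map_zero])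
  exact ⟨W, i₁.le, hxW, e.trans (map_zero _)⟩

/-- Restrictions off the members of the index are injective. -/
def PureOn (Z : Set X) (F : X.Modules) (V : X.Opens) : Prop :=
  ∀ T : _root_.ZClos.Cl Z, Function.Injective (res F (inf_le_left : V ⊓ T.U ≤ V))

/-- Restrictions off the members of the index are bijective. -/
def ClosedOn (Z : Set X) (F : X.Modules) (V : X.Opens) : Prop :=
  ∀ T : _root_.ZClos.Cl Z, Function.Bijective (res F (inf_le_left : V ⊓ T.U ≤ V))

lemma ClosedOn.pureOn {V : X.Opens} (h : ClosedOn Z F V) : PureOn Z F V := fun T => (h T).1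

lemma germ_rho (T : _root_.ZClos.Cl Z) {V : X.Opens} {x : X} (hx : x ∈ V) (t : Γ(F, V)) :
    _root_.ZClos.rhoStalk Z F x (F.presheaf.germ V x hx t) =
      ((_root_.ZClos.H0 Z).obj F).presheaf.germ V x hx (ιsec Z F T V (res F inf_le_left t)) := by
  rw [← rho_ιsec]
  exact stalkFunctor_map_germ x (_root_.ZClos.rhoApp Z F) hx t

theorem rhoStalk_injective_of (x : X)
    (h : ∀ V : X.Opens, x ∈ V → ∃ W : X.Opens, x ∈ W ∧ W ≤ V ∧ PureOn Z F W) :
    _root_.ZClos.IsZPureAt Z F x := by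
  refine (injective_iff_map_eq_zero (_root_.ZClos.rhoStalk Z F x).hom).2 fun z hz => ?_
  obtain ⟨V, hx, t, rfl⟩ := TopCat.Presheaf.exists_germ_eq F.presheaf z
  have hz' : _root_.ZClos.rhoStalk Z F x (F.presheaf.germ V x hx t) = 0 := hz
  rw [germ_rho ⊥ hx t] at hz'
  obtain ⟨T', hT, V', hx', hV, h0⟩ := (germ_eq_zero hx _).1 hz'
  obtain ⟨W, hxW, hWV, hW⟩ := h V' hx'
  rw [← germ_res (hWV.trans hV) hxW t]
  have : res F (hWV.trans hV) t = 0 := by
    refine hW T' ?_
    rw [map_zero]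
    have := congrArg (res F (inf_le_inf hWV le_rfl : W ⊓ T'.U ≤ V' ⊓ T'.U)) h0
    simpa only [res_res, map_zero] using this
  rw [this, map_zero]

theorem rhoStalk_surjective_of (x : X)
    (h : ∀ V : X.Opens, x ∈ V → ∃ W : X.Opens, x ∈ W ∧ W ≤ V ∧ ClosedOn Z F W) :
    Function.Surjective (_root_.ZClos.rhoStalk Z F x) := by
  intro z
  obtain ⟨T, V, hx, s, rfl⟩ := exists_germ x z
  obtain ⟨W, hxW, hWV, hW⟩ := h V hx
  obtain ⟨t, ht⟩ := (hW T).2 (res F (inf_le_inf hWV le_rfl) s)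
  refine ⟨F.presheaf.germ W x hxW t, ?_⟩
  rw [germ_rho T hxW t, ht, ← ιsec_res T hWV s, germ_res]

/-- The criterion for purity. -/
theorem isZPure_iff : _root_.ZClos.IsZPure Z F ↔ ∀ V, PureOn Z F V := by
  constructor
  · intro h V T
    haveI : Mono (_root_.ZClos.rhoApp Z F) := h
    refine (injective_iff_map_eq_zero _).2 fun t ht => ?_
    refine Lib.QCoh.Closure.sections_injective_of_mono (_root_.ZClos.rhoApp Z F) V ?_
    rw [rho_ιsec T, ht, map_zero, map_zero]
  · intro h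
    exact (mono_iff_stalk_injective _).2 fun x => rhoStalk_injective_of x fun V hx => ⟨V, hx, le_rfl, h V⟩

theorem isZPure_of_nhd (h : ∀ x : X, ∀ V : X.Opens, x ∈ V → ∃ W : X.Opens, x ∈ W ∧ W ≤ V ∧ PureOn Z F W) :
    _root_.ZClos.IsZPure Z F :=
  (mono_iff_stalk_injective _).2 fun x => rhoStalk_injective_of x (h x)

theorem isZClosed_of_nhd
    (h : ∀ x : X, ∀ V : X.Opens, x ∈ V → ∃ W : X.Opens, x ∈ W ∧ W ≤ V ∧ ClosedOn Z F W) :
    _root_.ZClos.IsZClosed Z F :=
  (isIso_iff_stalk_bijective _).2 fun x =>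
    ⟨rhoStalk_injective_of x fun V hx => (h x V hx).imp fun _ hW => ⟨hW.1, hW.2.1, hW.2.2.pureOn⟩,
      rhoStalk_surjective_of x (h x)⟩

lemma pure_of_closed (h : _root_.ZClos.IsZClosed Z F) : _root_.ZClos.IsZPure Z F := by
  haveI : IsIso (_root_.ZClos.rhoApp Z F) := h
  exact (inferInstance : Mono (_root_.ZClos.rhoApp Z F))

/-- The criterion for closedness. -/
theorem isZClosed_iff : _root_.ZClos.IsZClosed Z F ↔ ∀ V, ClosedOn Z F V := by
  refine ⟨fun h V T => ?_, fun h => isZClosed_of_nhd fun x V hx => ⟨V, hx, le_rfl, h V⟩⟩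
  have hp := isZPure_iff.1 (pure_of_closed h)
  refine ⟨hp V T, fun s => ?_⟩
  haveI : IsIso (_root_.ZClos.rhoApp Z F) := h
  obtain ⟨t, ht⟩ := ((isIso_iff_app_bijective _).1 ‹_› V).2 (ιsec Z F T V s)
  refine ⟨t, ?_⟩
  rw [rho_ιsec T] at ht
  rw [← sub_eq_zero]
  refine eq_zero_of_forall _ fun x hx => ?_
  obtain ⟨T', hT, W, hxW, hWV, h0⟩ := (germ_eq_zero (Z := Z) hx.1 (res F inf_le_left t - s)).1 (by
    rw [map_sub, ht, sub_self, map_zero])
  refine ⟨W ⊓ T.U, inf_le_inf hWV le_rfl, ⟨hxW, hx.2⟩, hp (W ⊓ T.U) T' ?_⟩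
  rw [map_zero, res_res]
  have := congrArg (res F (inf_le_inf inf_le_left le_rfl : (W ⊓ T.U) ⊓ T'.U ≤ W ⊓ T'.U)) h0
  simpa only [res_res, map_zero] using this

theorem bijective_res_img {T : _root_.ZClos.Cl Z} {V : X.Opens} :
    Function.Bijective ((_root_.ZClos.toDiagram Z F T).app V) ↔
      Function.Bijective (res F (inf_le_left : V ⊓ T.U ≤ V)) := by
  have hb : Function.Bijective (res F (le_img T.U V)) :=
    ⟨fun a b h => by simpa using congrArg (res F (img_le T.U V)) h,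
      fun a => ⟨res F (img_le T.U V) a, by simp⟩⟩
  have e : ⇑(res F (inf_le_left : V ⊓ T.U ≤ V)) =
      ⇑(res F (le_img T.U V)) ∘ ⇑((_root_.ZClos.toDiagram Z F T).app V) := funext fun t =>
    (res_res (M := F) (Scheme.Hom.image_preimage_le _ V) (le_img T.U V) t).symm
  rw [e]
  exact ⟨fun h => hb.comp h, fun h => (Function.Bijective.of_comp_iff' hb _).1 h⟩

theorem injective_res_img {T : _root_.ZClos.Cl Z} {V : X.Opens} :
    Function.Injective ((_root_.ZClos.toDiagram Z F T).app V) ↔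
      Function.Injective (res F (inf_le_left : V ⊓ T.U ≤ V)) := by
  have hb : Function.Injective (res F (le_img T.U V)) :=
    fun a b h => by simpa using congrArg (res F (img_le T.U V)) h
  have e : ⇑(res F (inf_le_left : V ⊓ T.U ≤ V)) =
      ⇑(res F (le_img T.U V)) ∘ ⇑((_root_.ZClos.toDiagram Z F T).app V) := funext fun t =>
    (res_res (M := F) (Scheme.Hom.image_preimage_le _ V) (le_img T.U V) t).symm
  rw [e]
  exact ⟨fun h => hb.comp h, fun h => h.of_comp⟩

theorem isZClosedAt_of_notMem {x : X} (hx : x ∉ Z) : _root_.ZClos.IsZClosedAt Z F x := by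
  refine ⟨(injective_iff_map_eq_zero (_root_.ZClos.rhoStalk Z F x).hom).2 fun z hz => ?_, fun z => ?_⟩
  · obtain ⟨V, hxV, t, rfl⟩ := TopCat.Presheaf.exists_germ_eq F.presheaf z
    have hz' : _root_.ZClos.rhoStalk Z F x (F.presheaf.germ V x hxV t) = 0 := hz
    rw [germ_rho ⊥ hxV t] at hz'
    obtain ⟨T', hT, V', hx', hV, h0⟩ := (germ_eq_zero hxV _).1 hz'
    have hxW : x ∈ V' ⊓ T'.U := ⟨hx', fun hxT => hx (T'.2 hxT)⟩
    rw [← germ_res (inf_le_left.trans hV) hxW t]
    rw [res_res] at h0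
    rw [h0, map_zero]
  · obtain ⟨T, V, hxV, s, rfl⟩ := exists_germ x z
    have hxW : x ∈ V ⊓ T.U := ⟨hxV, fun hxT => hx (T.2 hxT)⟩
    refine ⟨F.presheaf.germ (V ⊓ T.U) x hxW s, ?_⟩
    rw [germ_rho T hxW s, ← germ_res (inf_le_left : V ⊓ T.U ≤ V) hxW (ιsec Z F T V s), ιsec_res]

section Closure

variable [IsLocallyNoetherian X]

/-- A relatively closed subset of `Z` has closure inside `Z`. -/
theorem closure_subset (hZ : StableUnderSpecialization Z) {C : Set X} (hC : IsClosed C) (V : X.Opens)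
    (h : C ∩ V ⊆ Z) : closure (C ∩ V) ⊆ Z := by
  intro y hy
  obtain ⟨W, hW, hyW, -⟩ := exists_isCompact_nhd (V := (⊤ : X.Opens)) (Opens.mem_top y)
  let O : X.Opens := V ⊓ W
  have hOc : IsCompact (O : Set X) := isCompact_of_le hW inf_le_right
  let A : Set X := C ∩ (O : Set X)
  have hyA : y ∈ closure A := by
    have := W.2.inter_closure (t := C ∩ (V : Set X)) ⟨hyW, hy⟩
    refine closure_mono ?_ this
    rintro z ⟨hzW, hzC, hzV⟩
    exact ⟨hzC, hzV, hzW⟩
  haveI : NoetherianSpace A := (noetherianSpace_set_iff A).2 fun t ht => by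
    haveI : CompactSpace (O : Scheme.{u}) := isCompact_iff_compactSpace.mp hOc
    haveI : IsNoetherian (O : Scheme.{u}) := {}
    have hN : NoetherianSpace (↥(O : Set X)) := inferInstanceAs (NoetherianSpace (O : Scheme.{u}))
    exact (noetherianSpace_set_iff _).mp hN t (ht.trans Set.inter_subset_right)
  have hfin := NoetherianSpace.finite_irreducibleComponents (α := A)
  have hAeq : A = ⋃ S ∈ irreducibleComponents A, Subtype.val '' S := by
    ext z
    refine ⟨fun hz => ?_, fun hz => ?_⟩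
    · obtain ⟨S, hS, hzS⟩ := Set.mem_sUnion.1
        ((sUnion_irreducibleComponents (X := A)).ge (Set.mem_univ (⟨z, hz⟩ : A)))
      exact Set.mem_biUnion hS ⟨_, hzS, rfl⟩
    · obtain ⟨S, -, ⟨w, -, rfl⟩⟩ := Set.mem_iUnion₂.1 hz
      exact w.2
  rw [hAeq, hfin.closure_biUnion] at hyA
  obtain ⟨S, hS, hyS⟩ := Set.mem_iUnion₂.1 hyA
  have hirr : IsIrreducible (Subtype.val '' S) := hS.1.image _ continuous_subtype_val.continuousOn
  let η := hirr.genericPoint
  have hη : closure {η} = closure (Subtype.val '' S) := hirr.genericPoint_closure_eq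
  have hηO : η ∈ (O : Set X) := by
    obtain ⟨z, hz⟩ := hirr.nonempty
    have hzη : η ⤳ z := specializes_iff_mem_closure.2 (hη ▸ subset_closure hz)
    obtain ⟨w, -, rfl⟩ := hz
    exact hzη.mem_open O.2 w.2.2
  have hηC : η ∈ C := by
    have : η ∈ closure (Subtype.val '' S) := hη ▸ subset_closure (Set.mem_singleton η)
    refine hC.closure_subset_iff.2 ?_ this
    rintro _ ⟨w, -, rfl⟩
    exact w.2.1
  exact hZ (specializes_iff_mem_closure.2 (hη.symm ▸ hyS)) (h ⟨hηC, hηO.1⟩)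

/-- The member of the index given by a relatively closed subset of `Z`. -/
def clOf (hZ : StableUnderSpecialization Z) {C : Set X} (hC : IsClosed C) (V : X.Opens)
    (h : C ∩ V ⊆ Z) : _root_.ZClos.Cl Z :=
  ⟨⟨closure (C ∩ V), isClosed_closure⟩, closure_subset hZ hC V h⟩

lemma clOf_inf_U (hZ : StableUnderSpecialization Z) {C : Set X} (hC : IsClosed C) (V : X.Opens)
    (h : C ∩ V ⊆ Z) {x : X} (hx : x ∈ V ⊓ (clOf hZ hC V h).U) : x ∉ C :=
  fun hxC => hx.2 (subset_closure ⟨hxC, hx.1⟩)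

end Closure

end

end Groth.Agent.H18.ZClos
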