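import Groth.Agent.Lib.RefHull.DepthIso
import Groth.Agent.Lib.Depth.Assoc
import Mathlib.RingTheory.Ideal.AssociatedPrime.Localization

/-!
# Bijectivity of a stalk map from conditions on the generizations
-/

universe u v

open CategoryTheory AlgebraicGeometry TopologicalSpace Opposite
open Groth.Agent.Lib IsLocalRing

namespace Groth.Agent.H18.ZClos

/-- An element not killed at a prime has an associated prime below it. -/
theorem exists_ass_le {R : Type u} [CommRing R] [IsNoetherianRing R] {M : Type v} [AddCommGroup M] [Module R M]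
    (n : M) (P : Ideal R) [P.IsPrime] (h : ∀ r : R, r • n = 0 → r ∈ P) :
    ∃ (q : Ideal R) (_ : q.IsPrime) (s : M), q ≤ P ∧ q = (⊥ : Submodule R M).colon {s} ∧ ∃ c : R, c • n = s := by
  have hle : Module.annihilator R (Submodule.span R {n}) ≤ P := fun r hr => by
    rw [← Submodule.annihilator, Submodule.annihilator_span_singleton, LinearMap.mem_ker,
      LinearMap.toSpanSingleton_apply] at hr
    exact h r hr
  obtain ⟨q, hq, hqP⟩ := Ideal.exists_minimalPrimes_le hle
  obtain ⟨hqp, s, hs⟩ := isAssociatedPrime_iff.1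
    (Module.associatedPrimes.minimalPrimes_annihilator_subset_associatedPrimes R (Submodule.span R {n}) hq)
  obtain ⟨c, hc⟩ := Submodule.mem_span_singleton.1 s.2
  refine ⟨q, hqp, s.1, hqP, ?_, c, hc⟩
  ext r
  rw [hs, Submodule.mem_colon_singleton, Submodule.mem_bot, Submodule.mem_colon_singleton, Submodule.mem_bot]
  exact ⟨fun e => congrArg Subtype.val e, fun e => Subtype.ext e⟩

variable {X : Scheme.{u}} [IsLocallyNoetherian X] {F G : X.Modules}

theorem germ_div {V : X.Opens} (hV : IsAffineOpen V) {z : X} (hz : z ∈ V) (p : Ideal Γ(X, V))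
    (hp : (hV.primeIdealOf ⟨z, hz⟩).asIdeal = p) (a : X.presheaf.stalk z)
    (ha : a ∈ maximalIdeal (X.presheaf.stalk z)) :
    ∃ r ∈ p, ∃ d : Γ(X, V), IsUnit (X.presheaf.germ V z hz d) ∧
      X.presheaf.germ V z hz d * a = X.presheaf.germ V z hz r := by
  letI := TopCat.Presheaf.algebra_section_stalk X.presheaf (⟨z, hz⟩ : V)
  haveI := hV.isLocalization_stalk ⟨z, hz⟩
  obtain ⟨⟨r, d⟩, hd⟩ := IsLocalization.surj (hV.primeIdealOf ⟨z, hz⟩).asIdeal.primeCompl a
  have hd' : X.presheaf.germ V z hz d.1 * a = X.presheaf.germ V z hz r :=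
    (mul_comm _ _).trans hd
  refine ⟨r, ?_, d.1, IsLocalization.map_units (X.presheaf.stalk z) d, hd'⟩
  rw [← hp]
  by_contra hr
  have hru := IsLocalization.map_units (X.presheaf.stalk z)
    (⟨r, hr⟩ : (hV.primeIdealOf ⟨z, hz⟩).asIdeal.primeCompl)
  change IsUnit (X.presheaf.germ V z hz r) at hru
  rw [← hd'] at hru
  exact (IsLocalRing.mem_maximalIdeal _).mp ha (isUnit_of_mul_isUnit_right hru)

theorem specializes_of_le {V : X.Opens} (hV : IsAffineOpen V) {z x : X} (hz : z ∈ V) (hx : x ∈ V)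
    (h : (hV.primeIdealOf ⟨z, hz⟩).asIdeal ≤ (hV.primeIdealOf ⟨x, hx⟩).asIdeal) : z ⤳ x := by
  have := ((PrimeSpectrum.le_iff_specializes _ _).1 h).map hV.fromSpec.continuous
  rwa [hV.fromSpec_primeIdealOf, hV.fromSpec_primeIdealOf] at this

/-- Injectivity at `x` from injectivity or depth one at the generizations. -/
theorem stalkMap_injective (φ : F ⟶ G) (hF : Coh.IsCoh F) (hG : Coh.IsQCoh G) (x : X)
    (h : ∀ z : X, z ⤳ x → Function.Injective (RefHull.stalkMapₗ φ z) ∨
      (1 : ℕ∞) ≤ LocCoh.depth (X.presheaf.stalk z) (F.presheaf.stalk z)) :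
    Function.Injective (RefHull.stalkMapₗ φ x) := by
  haveI := hF.1
  haveI : G.IsQuasicoherent := hG
  rw [injective_iff_map_eq_zero]
  intro v hv
  by_contra hv0
  obtain ⟨V, hV, hxV, -⟩ := exists_isAffineOpen_mem_and_subset (X := X) (x := x) (U := ⊤) trivial
  obtain ⟨f, t, hf, e⟩ := QCoh.Stalk.exists_smul_eq_germ F hV hxV v
  have h1 : G.presheaf.germ V x hxV (φ.app V t) = 0 := by
    rw [← RefHull.stalkMapₗ_germ, ← e, map_smul, hv, smul_zero]
  obtain ⟨g, hg, hgt⟩ := (QCoh.Stalk.germ_eq_zero_iff G hV hxV _).mp h1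
  haveI : IsNoetherianRing Γ(X, V) := IsLocallyNoetherian.component_noetherian ⟨V, hV⟩
  set P := (hV.primeIdealOf ⟨x, hxV⟩).asIdeal
  have hP : ∀ r : Γ(X, V), r • (g • t) = 0 → r ∈ P := fun r hr => by
    by_contra hrP
    have h2 : F.presheaf.germ V x hxV t = 0 := by
      have h3 := congrArg (F.presheaf.germ V x hxV) hr
      rw [Modules.StalkModule.germ_smul, Modules.StalkModule.germ_smul, map_zero] at h3
      have hur : IsUnit (X.presheaf.germ V x hxV r) := by
        by_contra hnu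
        exact hrP ((QCoh.Stalk.mem_primeIdealOf_compl_iff hV hxV r).not.2 (fun hm => hnu ((X.mem_basicOpen r x hxV).mp hm)) |> not_not.1)
      exact ((X.mem_basicOpen g x hxV).mp hg).smul_eq_zero.mp (hur.smul_eq_zero.mp h3)
    rw [← e] at h2
    exact hv0 (((X.mem_basicOpen f x hxV).mp hf).smul_eq_zero.mp h2)
  obtain ⟨p, hpp, s, hpP, hps, c, hcs⟩ := exists_ass_le (g • t) P hP
  obtain ⟨z, hz, hzp⟩ := AssPt.Basic.exists_point_of_prime hV p
  have hzx : z ⤳ x := specializes_of_le hV hz hxV (hzp.trans_le hpP)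
  have hne : F.presheaf.germ V z hz s ≠ 0 := fun h0 => by
    obtain ⟨d, hd, hds⟩ := (QCoh.Stalk.germ_eq_zero_iff F hV hz _).mp h0
    refine (QCoh.Stalk.mem_primeIdealOf_compl_iff hV hz d).mpr hd ?_
    show d ∈ (hV.primeIdealOf ⟨z, hz⟩).asIdeal
    rw [hzp, hps]
    exact Submodule.mem_colon_singleton.mpr ((Submodule.mem_bot _).mpr hds)
  have hs0 : φ.app V s = 0 := by
    rw [← hcs, Scheme.Modules.Hom.app_smul, Scheme.Modules.Hom.app_smul, hgt, smul_zero]
  rcases h z hzx with hb | hd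
  · exact hne (hb (by rw [RefHull.stalkMapₗ_germ, hs0, map_zero, map_zero]))
  · haveI := RefHull.LocFree.finite_stalk hF z
    rcases subsingleton_or_nontrivial (F.presheaf.stalk z) with hsub | hnt
    · exact hne (Subsingleton.elim _ _)
    obtain ⟨a, ha, hreg⟩ := (Depth.Basic.one_le_idealDepth_iff.1 hd).resolve_left
      (Ne.symm (Submodule.top_ne_ideal_smul_of_le_jacobson_annihilator
        (IsLocalRing.maximalIdeal_le_jacobson _)))
    obtain ⟨r, hr, d, hdu, e'⟩ := germ_div hV hz p hzp a ha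
    refine hne (hdu.smul_eq_zero.mp (hreg.right_eq_zero_of_smul ?_))
    have hrs : r • s = 0 := by
      rw [hps, Submodule.mem_colon_singleton, Submodule.mem_bot] at hr
      exact hr
    rw [smul_smul, mul_comm, e', ← Modules.StalkModule.germ_smul, hrs, map_zero]

/-- Bijectivity at `x` from bijectivity or depth two at the generizations. -/
theorem stalkMap_bijective (φ : F ⟶ G) (hF : Coh.IsCoh F) (hG : Coh.IsQCoh G) (x : X)
    (h : ∀ z : X, z ⤳ x → Function.Bijective (RefHull.stalkMapₗ φ z) ∨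
      ((2 : ℕ∞) ≤ LocCoh.depth (X.presheaf.stalk z) (F.presheaf.stalk z) ∧ ¬ Curv2.IsAssPoint G z)) :
    Function.Bijective (RefHull.stalkMapₗ φ x) := by
  haveI := hF.1
  haveI : G.IsQuasicoherent := hG
  have hinj : ∀ z, z ⤳ x → Function.Injective (RefHull.stalkMapₗ φ z) := fun z hz =>
    stalkMap_injective φ hF hG z fun w hw => (h w (hw.trans hz)).imp (·.1) fun h2 => le_trans one_le_two h2.1
  refine ⟨hinj x specializes_rfl, fun w => ?_⟩
  by_contra hw
  obtain ⟨V, hV, hxV, -⟩ := exists_isAffineOpen_mem_and_subset (X := X) (x := x) (U := ⊤) trivial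
  obtain ⟨f, t, hf, e⟩ := QCoh.Stalk.exists_smul_eq_germ G hV hxV w
  haveI : IsNoetherianRing Γ(X, V) := IsLocallyNoetherian.component_noetherian ⟨V, hV⟩
  let I : Submodule Γ(X, V) Γ(G, V) :=
    { carrier := Set.range (φ.app V)
      add_mem' := by rintro _ _ ⟨a, rfl⟩ ⟨b, rfl⟩; exact ⟨a + b, map_add _ a b⟩
      zero_mem' := ⟨0, map_zero _⟩
      smul_mem' := by rintro r _ ⟨a, rfl⟩; exact ⟨r • a, Scheme.Modules.Hom.app_smul φ r a⟩ }
  set P := (hV.primeIdealOf ⟨x, hxV⟩).asIdeal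
  have hP : ∀ r : Γ(X, V), r • (Submodule.Quotient.mk t : Γ(G, V) ⧸ I) = 0 → r ∈ P := fun r hr => by
    by_contra hrP
    have hur : IsUnit (X.presheaf.germ V x hxV r) := by
      by_contra hnu
      exact hrP ((QCoh.Stalk.mem_primeIdealOf_compl_iff hV hxV r).not.2 (fun hm => hnu ((X.mem_basicOpen r x hxV).mp hm)) |> not_not.1)
    rw [← Submodule.Quotient.mk_smul, Submodule.Quotient.mk_eq_zero] at hr
    obtain ⟨a, ha⟩ := hr
    have h3 : RefHull.stalkMapₗ φ x (F.presheaf.germ V x hxV a) =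
        (X.presheaf.germ V x hxV r * X.presheaf.germ V x hxV f) • w := by
      rw [RefHull.stalkMapₗ_germ, ha, Modules.StalkModule.germ_smul, ← e, smul_smul]
    obtain ⟨u, hu⟩ := hur.mul ((X.mem_basicOpen f x hxV).mp hf)
    refine hw ⟨(u⁻¹ : (X.presheaf.stalk x)ˣ) • F.presheaf.germ V x hxV a, ?_⟩
    rw [Units.smul_def, map_smul, h3, smul_smul, ← hu, Units.inv_mul, one_smul]
  obtain ⟨p, hpp, q, hpP, hps, -⟩ := exists_ass_le (Submodule.Quotient.mk t : Γ(G, V) ⧸ I) P hP
  obtain ⟨s, rfl⟩ := Submodule.Quotient.mk_surjective _ q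
  obtain ⟨z, hz, hzp⟩ := AssPt.Basic.exists_point_of_prime hV p
  have hzx : z ⤳ x := specializes_of_le hV hz hxV (hzp.trans_le hpP)
  have hmem : ∀ r, r ∈ p ↔ r • s ∈ I := fun r => by
    rw [hps, Submodule.mem_colon_singleton, Submodule.mem_bot, ← Submodule.Quotient.mk_smul,
      Submodule.Quotient.mk_eq_zero]
  have hne : ¬ ∃ m, RefHull.stalkMapₗ φ z m = G.presheaf.germ V z hz s := by
    rintro ⟨m, hm⟩
    obtain ⟨d, s', hd, e'⟩ := QCoh.Stalk.exists_smul_eq_germ F hV hz m
    have h1 : G.presheaf.germ V z hz (φ.app V s' - d • s) = 0 := by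
      rw [map_sub, Modules.StalkModule.germ_smul, ← RefHull.stalkMapₗ_germ, ← e', map_smul, hm, sub_self]
    obtain ⟨d', hd', h2⟩ := (QCoh.Stalk.germ_eq_zero_iff G hV hz _).mp h1
    rw [smul_sub, sub_eq_zero, ← Scheme.Modules.Hom.app_smul, smul_smul] at h2
    have h3 : d' * d ∈ p := (hmem _).mpr ⟨_, h2⟩
    rw [← hzp] at h3
    rcases (hV.primeIdealOf ⟨z, hz⟩).isPrime.mem_or_mem h3 with h4 | h4
    · exact (QCoh.Stalk.mem_primeIdealOf_compl_iff hV hz d').mpr hd' h4
    · exact (QCoh.Stalk.mem_primeIdealOf_compl_iff hV hz d).mpr hd h4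
  rcases h z hzx with hb | ⟨hd, hass⟩
  · exact hne (hb.2 _)
  · haveI := RefHull.LocFree.finite_stalk hF z
    refine hne (RefHull.DepthIso.mem_range_of_maximalIdeal_smul hd hass (RefHull.stalkMapₗ φ z) (hinj z hzx) _
      fun a ha => ?_)
    obtain ⟨r, hr, d, hdu, e'⟩ := germ_div hV hz p hzp a ha
    refine (Submodule.smul_mem_iff_of_isUnit _ hdu).mp ?_
    rw [smul_smul, e', ← Modules.StalkModule.germ_smul]
    obtain ⟨m, hm⟩ := (hmem r).mp hr
    exact ⟨_, (RefHull.stalkMapₗ_germ φ z hz m).trans (congrArg _ hm)⟩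

end Groth.Agent.H18.ZClos
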