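import Groth.Agent.H18.Sec.Div
import Groth.Agent.H18.Sec.Coh
import Groth.Agent.H18.ZClos.PointBij
import Groth.Agent.Lib.StalkLoc.Ass
import Groth.Agent.Lib.Depth.SES

/-!
# Depth of the closure at points of `Z`
-/

set_option linter.style.haveILetI false

universe u

open CategoryTheory AlgebraicGeometry Opposite TopologicalSpace IsLocalRing Pointwise
open Groth.Agent.Lib.StalkLoc.Basic

namespace Groth.Agent.H18.ZClos

open H18.Sec

variable {X : Scheme.{u}} [IsLocallyNoetherian X] {Z : Set X} {F : X.Modules}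

theorem rhoStalk_eq (x : X) :
    ⇑(_root_.RefHull.stalkMapₗ (_root_.ZClos.rhoApp Z F) x) = ⇑(_root_.ZClos.rhoStalk Z F x).hom := rfl

theorem not_le_of_mem (hZ : StableUnderSpecialization Z) {W : X.Opens} (hW : IsAffineOpen W) {x : X}
    (hx : x ∈ W) (hxZ : x ∈ Z) :
    ∀ y ∈ outside Z hW, ¬ (hW.primeIdealOf ⟨x, hx⟩).asIdeal ≤ y.asIdeal := fun y hy hle => by
  refine outside_generize hZ hW _ y hle hy ?_
  rwa [hW.fromSpec_primeIdealOf]

/-- No point of `Z` is associated to the closure. -/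
theorem not_isAssPoint_H0 [F.IsQuasicoherent] (hZ : StableUnderSpecialization Z) {x : X} (hx : x ∈ Z) :
    ¬ Curv2.IsAssPoint ((_root_.ZClos.H0 Z).obj F) x := by
  haveI := isQCoh_H0 (Z := Z) (F := F)
  obtain ⟨W, hW, hxW, -⟩ := exists_isAffineOpen_mem_and_subset (X := X) (x := x) (U := ⊤) trivial
  intro h
  have h' := (Lib.StalkLoc.Ass.mem_ass_iff hW hxW).1 h
  haveI := IsLocallyNoetherian.component_noetherian (X := X) ⟨W, hW⟩
  obtain ⟨e⟩ := exists_sectionsEquiv (F := F) hZ hW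
  obtain ⟨hpp, σ, hσ⟩ := isAssociatedPrime_iff.1 h'
  have h0 : e σ = 0 := eq_zero_of_smul_prime (not_le_of_mem hZ hW hxW hx) (e σ) fun c hc => by
    rw [← map_smul]
    rw [hσ, Submodule.mem_colon_singleton, Submodule.mem_bot] at hc
    rw [hc, map_zero]
  rw [LinearEquiv.map_eq_zero_iff] at h0
  refine hpp.ne_top ((Ideal.eq_top_iff_one _).2 (hσ.ge ?_))
  rw [Submodule.mem_colon_singleton, h0, smul_zero]
  exact Submodule.zero_mem _

/-- The closure has depth at least two at points of `Z` with finite stalk. -/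
theorem two_le_depth_H0 (hZ : StableUnderSpecialization Z) (hF : Coh.IsCoh F) {x : X} (hx : x ∈ Z)
    [Module.Finite (X.presheaf.stalk x) (((_root_.ZClos.H0 Z).obj F).presheaf.stalk x)] :
    (2 : ℕ∞) ≤ LocCoh.depth (X.presheaf.stalk x) (((_root_.ZClos.H0 Z).obj F).presheaf.stalk x) := by
  haveI := hF.1
  haveI := isQCoh_H0 (Z := Z) (F := F)
  obtain ⟨W, hW, hxW, -⟩ := exists_isAffineOpen_mem_and_subset (X := X) (x := x) (U := ⊤) trivial
  haveI := IsLocallyNoetherian.component_noetherian (X := X) ⟨W, hW⟩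
  haveI := Lib.CohBasics.Closure.finite_sections hF hW
  set N := ((_root_.ZClos.H0 Z).obj F)
  obtain ⟨e⟩ := exists_sectionsEquiv (F := F) hZ hW
  set p := (hW.primeIdealOf ⟨x, hxW⟩).asIdeal
  have hp := not_le_of_mem hZ hW hxW hx
  obtain ⟨a, hap, ha⟩ := exists_regular_stalks (M := Γ(F, W)) hp (fun y z => outside_generize hZ hW y z)
  letI := moduleSections N hxW
  letI := TopCat.Presheaf.algebra_section_stalk X.presheaf (⟨x, hxW⟩ : W)
  haveI := isScalarTower_sections N hxW
  haveI := hW.isLocalization_stalk ⟨x, hxW⟩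
  haveI hloc := isLocalizedModule_germ (M := N) hW hxW
  set g := germₗ N hxW
  have hmax : ∀ c ∈ p, (algebraMap Γ(X, W) (X.presheaf.stalk x)) c ∈ maximalIdeal (X.presheaf.stalk x) := fun c hc => by
    have : (maximalIdeal (X.presheaf.stalk x)).comap (algebraMap Γ(X, W) (X.presheaf.stalk x)) = p := IsLocalization.AtPrime.comap_maximalIdeal (X.presheaf.stalk x) p
    rw [← this] at hc
    exact hc
  have hunit : ∀ s : Γ(X, W), s ∉ p → IsUnit ((algebraMap Γ(X, W) (X.presheaf.stalk x)) s) := fun s hs => IsLocalization.map_units (X.presheaf.stalk x) (⟨s, hs⟩ : p.primeCompl)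
  have hsm : ∀ (s : Γ(X, W)) (n : N.presheaf.stalk x), (algebraMap Γ(X, W) (X.presheaf.stalk x)) s • n = s • n := fun s n => algebraMap_smul (X.presheaf.stalk x) s n
  -- a is regular on the stalk
  have hareg : IsSMulRegular (N.presheaf.stalk x) ((algebraMap Γ(X, W) (X.presheaf.stalk x)) a) := IsSMulRegular.of_right_eq_zero_of_smul fun n hn => by
    obtain ⟨⟨σ, s⟩, hσ⟩ := IsLocalizedModule.surj p.primeCompl g n
    have h1 : g (a • σ) = 0 := by
      rw [map_smul, ← hσ, Submonoid.smul_def, smul_comm, ← hsm a, hn, smul_zero]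
    obtain ⟨u, hu⟩ := (IsLocalizedModule.eq_zero_iff p.primeCompl g).1 h1
    have h2 : e ((u : Γ(X, W)) • σ) = 0 := Subtype.ext (funext fun y => ha y _ (by
      have h3 : a • e ((u : Γ(X, W)) • σ) = 0 := by rw [← map_smul, smul_comm]; exact (congrArg e hu).trans (map_zero e)
      exact congrFun (congrArg Subtype.val h3) y))
    rw [LinearEquiv.map_eq_zero_iff] at h2
    refine (hunit s s.2).smul_eq_zero.mp ?_
    rw [hsm, show (s : Γ(X, W)) • n = g σ from hσ]
    exact (IsLocalizedModule.eq_zero_iff p.primeCompl g).2 ⟨u, h2⟩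
  have hq : ∀ q : QuotSMulTop ((algebraMap Γ(X, W) (X.presheaf.stalk x)) a) (N.presheaf.stalk x), (∀ r ∈ maximalIdeal (X.presheaf.stalk x), r • q = 0) → q = 0 := by
    intro q hq
    obtain ⟨n, rfl⟩ := Submodule.Quotient.mk_surjective _ q
    obtain ⟨⟨σ, s⟩, hσ⟩ := IsLocalizedModule.surj p.primeCompl g n
    obtain ⟨t, htp, w, hw⟩ := exists_div hp hap ha (e σ) fun c hc => by
      have h1 := hq ((algebraMap Γ(X, W) (X.presheaf.stalk x)) c) (hmax c hc)
      rw [← Submodule.Quotient.mk_smul, Submodule.Quotient.mk_eq_zero,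
        Submodule.mem_smul_pointwise_iff_exists] at h1
      obtain ⟨n', -, hn'⟩ := h1
      obtain ⟨⟨τ, s'⟩, hτ⟩ := IsLocalizedModule.surj p.primeCompl g n'
      rw [hsm, hsm] at hn'
      have h2 : g ((s : Γ(X, W)) • a • τ) = g (((s' : Γ(X, W)) * c) • σ) := by
        rw [map_smul, map_smul, map_smul, ← hσ, ← hτ, Submonoid.smul_def, Submonoid.smul_def,
          smul_comm a (s' : Γ(X, W)), hn']
        simp only [smul_smul]
        congr 1
        ring
      obtain ⟨u, hu⟩ := (IsLocalizedModule.eq_iff_exists p.primeCompl g).1 h2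
      refine ⟨(u : Γ(X, W)) * s', fun hm => ((hW.primeIdealOf ⟨x, hxW⟩).isPrime.mem_or_mem hm).elim u.2 s'.2,
        e (((u : Γ(X, W)) * s) • τ), ?_⟩
      rw [← map_smul, ← map_smul, mul_smul, mul_assoc, mul_smul (u : Γ(X, W)), smul_comm a (u : Γ(X, W)),
        smul_comm a (s : Γ(X, W))]
      exact congrArg e hu
    rw [Submodule.Quotient.mk_eq_zero, Submodule.mem_smul_pointwise_iff_exists]
    obtain ⟨v, hv⟩ := (hunit (t * s) (fun hm => ((hW.primeIdealOf ⟨x, hxW⟩).isPrime.mem_or_mem hm).elim htp s.2))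
    refine ⟨((v⁻¹ : (X.presheaf.stalk x)ˣ) : (X.presheaf.stalk x)) • g (e.symm w), trivial, ?_⟩
    rw [smul_comm, hsm, ← map_smul g, ← map_smul e.symm, hw, map_smul, e.symm_apply_apply, map_smul, ← hσ,
      Submonoid.smul_def, smul_smul, ← hsm, smul_smul, ← hv, Units.inv_mul, one_smul]
  refine (Lib.Depth.SES.succ_le_idealDepth_iff (maximalIdeal (X.presheaf.stalk x)) (M := N.presheaf.stalk x) (hmax a hap) hareg 1).2 ?_
  rw [Nat.cast_one, Lib.Depth.Assoc.one_le_idealDepth_iff_forall]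
  refine Or.inr fun P hP hle => ?_
  obtain ⟨hPp, q, hq'⟩ := isAssociatedPrime_iff.1 hP
  refine hPp.ne_top ((Ideal.eq_top_iff_one _).2 (hq'.ge ?_))
  rw [Submodule.mem_colon_singleton, hq q fun r hr => ?_, smul_zero]
  · exact Submodule.zero_mem _
  · have := hle hr
    rw [hq', Submodule.mem_colon_singleton, Submodule.mem_bot] at this
    exact this

theorem depth_congr_rho {x : X} (h : Function.Bijective (_root_.ZClos.rhoStalk Z F x)) :
    LocCoh.depth (X.presheaf.stalk x) (F.presheaf.stalk x) =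
      LocCoh.depth (X.presheaf.stalk x) (((_root_.ZClos.H0 Z).obj F).presheaf.stalk x) :=
  Lib.Depth.Basic.depth_congr (LinearEquiv.ofBijective (_root_.RefHull.stalkMapₗ (_root_.ZClos.rhoApp Z F) x) h)

/-- Stalk bijectivity passes to generizations. -/
theorem rhoStalk_bijective_generize [F.IsQuasicoherent] (x z : X) (hzx : z ⤳ x)
    (h : Function.Bijective (_root_.ZClos.rhoStalk Z F x)) : Function.Bijective (_root_.ZClos.rhoStalk Z F z) := by
  haveI := isQCoh_H0 (Z := Z) (F := F)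
  obtain ⟨W, hW, hxW, -⟩ := exists_isAffineOpen_mem_and_subset (X := X) (x := x) (U := ⊤) trivial
  have hzW : z ∈ W := hzx.mem_open W.2 hxW
  haveI := IsLocallyNoetherian.component_noetherian (X := X) ⟨W, hW⟩
  set φ := _root_.ZClos.rhoApp Z F
  have hxz : ∀ d : Γ(X, W), x ∈ X.basicOpen d → z ∈ X.basicOpen d := fun d hd => hzx.mem_open (X.basicOpen d).2 hd
  change Function.Bijective (_root_.RefHull.stalkMapₗ φ z)
  change Function.Bijective (_root_.RefHull.stalkMapₗ φ x) at h
  refine ⟨(injective_iff_map_eq_zero _).2 fun v hv => ?_, fun w => ?_⟩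
  · obtain ⟨f, t, hf, e⟩ := Lib.QCoh.Stalk.exists_smul_eq_germ F hW hzW v
    have h1 : ((_root_.ZClos.H0 Z).obj F).presheaf.germ W z hzW (φ.app W t) = 0 := by
      rw [← RefHull.stalkMapₗ_germ, ← e, map_smul, hv, smul_zero]
    obtain ⟨g, hg, hgt⟩ := (Lib.QCoh.Stalk.germ_eq_zero_iff _ hW hzW _).mp h1
    have h2 : F.presheaf.germ W x hxW (g • t) = 0 := h.1 (by
      rw [RefHull.stalkMapₗ_germ, Scheme.Modules.Hom.app_smul, hgt, map_zero, map_zero])
    obtain ⟨d, hd, hdt⟩ := (Lib.QCoh.Stalk.germ_eq_zero_iff F hW hxW _).mp h2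
    have h3 : F.presheaf.germ W z hzW t = 0 := by
      have h4 := congrArg (F.presheaf.germ W z hzW) hdt
      rw [Lib.Modules.StalkModule.germ_smul, Lib.Modules.StalkModule.germ_smul, map_zero] at h4
      exact ((X.mem_basicOpen g z hzW).mp hg).smul_eq_zero.mp
        (((X.mem_basicOpen d z hzW).mp (hxz d hd)).smul_eq_zero.mp h4)
    rw [← e] at h3
    exact ((X.mem_basicOpen f z hzW).mp hf).smul_eq_zero.mp h3
  · obtain ⟨f, t, hf, e⟩ := Lib.QCoh.Stalk.exists_smul_eq_germ _ hW hzW w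
    obtain ⟨v, hv⟩ := h.2 (((_root_.ZClos.H0 Z).obj F).presheaf.germ W x hxW t)
    obtain ⟨d, s, hd, e'⟩ := Lib.QCoh.Stalk.exists_smul_eq_germ F hW hxW v
    have h1 : ((_root_.ZClos.H0 Z).obj F).presheaf.germ W x hxW (φ.app W s - d • t) = 0 := by
      rw [map_sub, Lib.Modules.StalkModule.germ_smul, ← RefHull.stalkMapₗ_germ, ← e', map_smul, hv, sub_self]
    obtain ⟨d', hd', h2⟩ := (Lib.QCoh.Stalk.germ_eq_zero_iff _ hW hxW _).mp h1
    rw [smul_sub, sub_eq_zero, ← Scheme.Modules.Hom.app_smul, smul_smul] at h2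
    have h3 : _root_.RefHull.stalkMapₗ φ z (F.presheaf.germ W z hzW (d' • s)) =
        (X.presheaf.germ W z hzW (d' * d) * X.presheaf.germ W z hzW f) • w := by
      rw [RefHull.stalkMapₗ_germ, h2, Lib.Modules.StalkModule.germ_smul, ← e, smul_smul]
    obtain ⟨u, hu⟩ : IsUnit (X.presheaf.germ W z hzW (d' * d) * X.presheaf.germ W z hzW f) := by
      rw [map_mul]
      exact (((X.mem_basicOpen d' z hzW).mp (hxz d' hd')).mul ((X.mem_basicOpen d z hzW).mp (hxz d hd))).mul
        ((X.mem_basicOpen f z hzW).mp hf)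
    refine ⟨(u⁻¹ : (X.presheaf.stalk z)ˣ) • F.presheaf.germ W z hzW (d' • s), ?_⟩
    rw [Units.smul_def, map_smul, h3, smul_smul, ← hu, Units.inv_mul, one_smul]

end Groth.Agent.H18.ZClos
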