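import Groth.Agent.H18.ZClos.Depth

/-!
# Pointwise criteria for purity and closedness
-/

set_option linter.style.haveILetI false

universe u

open CategoryTheory AlgebraicGeometry Opposite TopologicalSpace IsLocalRing

namespace Groth.Agent.H18.ZClos

variable {X : Scheme.{u}} [IsLocallyNoetherian X] {Z : Set X} {F : X.Modules}

theorem one_le_depth_of_injective (hZ : StableUnderSpecialization Z) (hF : Coh.IsCoh F) {x : X} (hx : x ∈ Z)
    (h : Function.Injective (_root_.ZClos.rhoStalk Z F x)) :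
    (1 : ℕ∞) ≤ LocCoh.depth (X.presheaf.stalk x) (F.presheaf.stalk x) := by
  haveI := hF.1
  haveI := Lib.RefHull.LocFree.finite_stalk hF x
  rw [LocCoh.depth, Lib.Depth.Assoc.one_le_idealDepth_iff_forall]
  refine Or.inr fun P hP hle => ?_
  have hP' : P = maximalIdeal (X.presheaf.stalk x) :=
    ((maximalIdeal.isMaximal _).eq_of_le hP.isPrime.ne_top hle).symm
  subst hP'
  have h2 := associatedPrimes.subset_of_injective
    (f := _root_.RefHull.stalkMapₗ (_root_.ZClos.rhoApp Z F) x) h hP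
  exact not_isAssPoint_H0 hZ hx h2

theorem isZPureAt_iff (hZ : StableUnderSpecialization Z) (hF : Coh.IsCoh F) (x : X) :
    _root_.ZClos.IsZPureAt Z F x ↔
      ∀ x' : X, x' ⤳ x → x' ∈ Z → (1 : ℕ∞) ≤ LocCoh.depth (X.presheaf.stalk x') (F.presheaf.stalk x') := by
  haveI := hF.1
  haveI := H18.Sec.isQCoh_H0 (Z := Z) (F := F)
  constructor
  · intro h z hzx hz
    refine one_le_depth_of_injective hZ hF hz ((injective_iff_map_eq_zero _).2 fun v hv => ?_)
    obtain ⟨W, hW, hxW, -⟩ := exists_isAffineOpen_mem_and_subset (X := X) (x := x) (U := ⊤) trivial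
    have hzW : z ∈ W := hzx.mem_open W.2 hxW
    haveI := IsLocallyNoetherian.component_noetherian (X := X) ⟨W, hW⟩
    obtain ⟨f, t, hf, e⟩ := Lib.QCoh.Stalk.exists_smul_eq_germ F hW hzW v
    change _root_.RefHull.stalkMapₗ (_root_.ZClos.rhoApp Z F) z v = 0 at hv
    have h1 : ((_root_.ZClos.H0 Z).obj F).presheaf.germ W z hzW ((_root_.ZClos.rhoApp Z F).app W t) = 0 := by
      rw [← RefHull.stalkMapₗ_germ, ← e, map_smul, hv, smul_zero]
    obtain ⟨g, hg, hgt⟩ := (Lib.QCoh.Stalk.germ_eq_zero_iff _ hW hzW _).mp h1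
    have h' : Function.Injective (_root_.RefHull.stalkMapₗ (_root_.ZClos.rhoApp Z F) x) := h
    have h2 : F.presheaf.germ W x hxW (g • t) = 0 := h' (by
      rw [RefHull.stalkMapₗ_germ, Scheme.Modules.Hom.app_smul, hgt, map_zero, map_zero])
    obtain ⟨d, hd, hdt⟩ := (Lib.QCoh.Stalk.germ_eq_zero_iff F hW hxW _).mp h2
    have h3 : F.presheaf.germ W z hzW t = 0 := by
      have h4 := congrArg (F.presheaf.germ W z hzW) hdt
      rw [Lib.Modules.StalkModule.germ_smul, Lib.Modules.StalkModule.germ_smul, map_zero] at h4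
      exact ((X.mem_basicOpen g z hzW).mp hg).smul_eq_zero.mp
        (((X.mem_basicOpen d z hzW).mp (hzx.mem_open (X.basicOpen d).2 hd)).smul_eq_zero.mp h4)
    rw [← e] at h3
    exact ((X.mem_basicOpen f z hzW).mp hf).smul_eq_zero.mp h3
  · intro h
    refine stalkMap_injective (_root_.ZClos.rhoApp Z F) hF ‹_› x fun z hz => ?_
    by_cases hzZ : z ∈ Z
    · exact Or.inr (h z hz hzZ)
    · exact Or.inl (isZClosedAt_of_notMem hzZ).1

theorem isZClosedAt_iff (hZ : StableUnderSpecialization Z) (hF : Coh.IsCoh F) (x : X) :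
    _root_.ZClos.IsZClosedAt Z F x ↔
      ∀ x' : X, x' ⤳ x → x' ∈ Z → (2 : ℕ∞) ≤ LocCoh.depth (X.presheaf.stalk x') (F.presheaf.stalk x') := by
  haveI := hF.1
  haveI := H18.Sec.isQCoh_H0 (Z := Z) (F := F)
  constructor
  · intro h z hzx hz
    have hb := rhoStalk_bijective_generize x z hzx h
    haveI := Lib.RefHull.LocFree.finite_stalk hF z
    haveI : Module.Finite (X.presheaf.stalk z) (((_root_.ZClos.H0 Z).obj F).presheaf.stalk z) :=
      Module.Finite.of_surjective (_root_.RefHull.stalkMapₗ (_root_.ZClos.rhoApp Z F) z) hb.2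
    rw [depth_congr_rho hb]
    exact two_le_depth_H0 hZ hF hz
  · intro h
    refine stalkMap_bijective (_root_.ZClos.rhoApp Z F) hF ‹_› x fun z hz => ?_
    by_cases hzZ : z ∈ Z
    · exact Or.inr ⟨h z hz hzZ, not_isAssPoint_H0 hZ hzZ⟩
    · exact Or.inl (isZClosedAt_of_notMem hzZ)

end Groth.Agent.H18.ZClos
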