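import Groth.Agent.H18.ZClos.OpenLocus
import Mathlib.RingTheory.KrullDimension.Module

/-!
# The closure outside codimension two
-/

set_option linter.style.haveILetI false

universe u

open CategoryTheory AlgebraicGeometry Opposite TopologicalSpace IsLocalRing
open Groth.Agent.Lib.StalkLoc.Basic

namespace Groth.Agent.H18.ZClos

variable {X : Scheme.{u}}

theorem stableUnderSpecialization_dimGe (n : ℕ) : StableUnderSpecialization (_root_.ZClos.dimGe X n) := by
  intro z w hzw hz
  have h : Order.coheight z ≤ Order.coheight w := Order.coheight_anti hzw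
  show (n : WithBot ℕ∞) ≤ ringKrullDim (X.presheaf.stalk w)
  refine le_trans hz ?_
  rw [ringKrullDim_stalk_eq_coheight, ringKrullDim_stalk_eq_coheight]
  exact_mod_cast h

variable [IsLocallyNoetherian X] {F : X.Modules}

theorem one_le_depth_of_notMem_ass (hF : Coh.IsCoh F) {x : X} (hx : x ∉ AssSch.Ass F) :
    (1 : ℕ∞) ≤ LocCoh.depth (X.presheaf.stalk x) (F.presheaf.stalk x) := by
  haveI := Lib.RefHull.LocFree.finite_stalk hF x
  rw [LocCoh.depth, Lib.Depth.Assoc.one_le_idealDepth_iff_forall]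
  refine Or.inr fun P hP hle => hx ?_
  rw [((maximalIdeal.isMaximal (X.presheaf.stalk x)).eq_of_le hP.isPrime.ne_top hle).symm] at hP
  exact hP

theorem min_le_depth_of_notMem (hF : Coh.IsCoh F) (hass : ∀ x ∈ AssSch.Ass F, ringKrullDim (X.presheaf.stalk x) ≠ 1)
    {x : X} (hx : x ∉ _root_.ZClos.dimGe X 2) :
    min (2 : WithBot ℕ∞) (Module.supportDim (X.presheaf.stalk x) (F.presheaf.stalk x)) ≤
      ((LocCoh.depth (X.presheaf.stalk x) (F.presheaf.stalk x) : ℕ∞) : WithBot ℕ∞) := by
  refine le_trans (min_le_right _ _) ((Module.supportDim_le_ringKrullDim _ _).trans ?_)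
  have hlt : ¬ (2 : WithBot ℕ∞) ≤ ringKrullDim (X.presheaf.stalk x) := hx
  rw [ringKrullDim_stalk_eq_coheight] at hlt ⊢
  have h1 : Order.coheight x ≤ 1 := by
    by_contra h
    refine hlt (WithBot.coe_le_coe.2 ?_)
    simpa [one_add_one_eq_two] using Order.add_one_le_of_lt (not_le.1 h)
  refine WithBot.coe_le_coe.2 ?_
  rcases eq_or_ne (Order.coheight x) 0 with h0 | h0
  · rw [h0]; exact bot_le
  · refine h1.trans (one_le_depth_of_notMem_ass hF fun hmem => hass x hmem ?_)
    rw [ringKrullDim_stalk_eq_coheight, le_antisymm h1 (Order.one_le_iff_ne_zero.2 h0)]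
    rfl

theorem supportDim_eq (hF : Coh.IsCoh F) (hsupp : ∀ x : X, Nontrivial (F.presheaf.stalk x)) (x : X) :
    Module.supportDim (X.presheaf.stalk x) (F.presheaf.stalk x) = ringKrullDim (X.presheaf.stalk x) := by
  classical
  haveI := hF.1
  haveI := Lib.RefHull.LocFree.finite_stalk hF x
  suffices h : ∀ r ∈ Module.annihilator (X.presheaf.stalk x) (F.presheaf.stalk x),
      ∀ (Q : Ideal (X.presheaf.stalk x)), Q.IsPrime → r ∈ Q by
    have hu : Module.support (X.presheaf.stalk x) (F.presheaf.stalk x) = Set.univ := by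
      rw [Module.support_eq_zeroLocus, Set.eq_univ_iff_forall]
      exact fun Q r hr => h r hr Q.asIdeal Q.isPrime
    rw [Module.supportDim, hu]
    exact Order.krullDim_eq_of_orderIso OrderIso.Set.univ
  intro r hr Q hQ
  obtain ⟨W, hW, hxW, -⟩ := exists_isAffineOpen_mem_and_subset (X := X) (x := x) (U := ⊤) trivial
  haveI := IsLocallyNoetherian.component_noetherian (X := X) ⟨W, hW⟩
  haveI := Lib.CohBasics.Closure.finite_sections hF hW
  letI := moduleSections F hxW
  letI := TopCat.Presheaf.algebra_section_stalk X.presheaf (⟨x, hxW⟩ : W)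
  haveI := isScalarTower_sections F hxW
  haveI := hW.isLocalization_stalk ⟨x, hxW⟩
  haveI hloc := isLocalizedModule_germ (M := F) hW hxW
  set px := (hW.primeIdealOf ⟨x, hxW⟩).asIdeal
  obtain ⟨⟨f, s⟩, hfs⟩ := IsLocalization.surj px.primeCompl r
  obtain ⟨T, hT⟩ := (inferInstance : Module.Finite Γ(X, W) Γ(F, W)).fg_top
  have hkill : ∀ m : Γ(F, W), ∃ u : Γ(X, W), u ∉ px ∧ u • f • m = 0 := fun m => by
    have h0 : germₗ F hxW (f • m) = 0 := by
      rw [map_smul, ← algebraMap_smul (X.presheaf.stalk x) f, ← hfs, mul_comm, mul_smul,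
        Module.mem_annihilator.1 hr _, smul_zero]
    obtain ⟨u, hu⟩ := (IsLocalizedModule.eq_zero_iff px.primeCompl (germₗ F hxW)).1 h0
    exact ⟨u.1, u.2, hu⟩
  choose u hu huf using hkill
  set g := ∏ m ∈ T, u m
  have hg : g ∉ px := fun hm => by
    obtain ⟨m, -, hm'⟩ := (Ideal.IsPrime.prod_mem_iff (hp := (hW.primeIdealOf ⟨x, hxW⟩).isPrime)).1 hm
    exact hu m hm'
  have hgf : ∀ m : Γ(F, W), (g * f) • m = 0 := fun m => by
    have hm : m ∈ Submodule.span Γ(X, W) (T : Set Γ(F, W)) := by rw [hT]; trivial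
    induction hm using Submodule.span_induction with
    | mem v hv =>
      rw [mul_smul, show g = (∏ y ∈ T.erase v, u y) * u v from (Finset.prod_erase_mul T u hv).symm, mul_smul,
        huf v, smul_zero]
    | zero => exact smul_zero _
    | add a b _ _ ha hb => rw [smul_add, ha, hb, add_zero]
    | smul a b _ hb => rw [smul_comm, hb, smul_zero]
  set P := Q.comap (algebraMap Γ(X, W) (X.presheaf.stalk x))
  obtain ⟨z, hz, hzP⟩ := Lib.AssPt.Basic.exists_point_of_prime hW P
  haveI := hsupp z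
  obtain ⟨v, hv⟩ := exists_ne (0 : F.presheaf.stalk z)
  have hmem : g * f ∈ P := by
    by_contra hnot
    rw [← hzP] at hnot
    have hzgf : z ∈ X.basicOpen (g * f) := (Lib.QCoh.Stalk.mem_primeIdealOf_compl_iff hW hz (g * f)).1 hnot
    obtain ⟨d, t, hd, e⟩ := Lib.QCoh.Stalk.exists_smul_eq_germ F hW hz v
    have h1 : X.presheaf.germ W z hz (g * f) • F.presheaf.germ W z hz t = 0 := by
      rw [← Lib.Modules.StalkModule.germ_smul, hgf t, map_zero]
    rw [← e] at h1
    exact hv (((X.mem_basicOpen d z hz).mp hd).smul_eq_zero.mp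
      (((X.mem_basicOpen (g * f) z hz).mp hzgf).smul_eq_zero.mp h1))
  have hmax : P ≤ px := by
    rw [← IsLocalization.AtPrime.comap_maximalIdeal (X.presheaf.stalk x) px]
    exact Ideal.comap_mono (le_maximalIdeal hQ.ne_top)
  have hfP : f ∈ P := ((inferInstance : P.IsPrime).mem_or_mem hmem).resolve_left fun h => hg (hmax h)
  have hrs : r * algebraMap Γ(X, W) (X.presheaf.stalk x) s ∈ Q := hfs ▸ hfP
  exact (hQ.mem_or_mem hrs).resolve_right fun h => s.2 (hmax h)

end Groth.Agent.H18.ZClos
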