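import Groth.Agent.H18.ZClos.DepthCrit
import Groth.Agent.H18.ZClos.Support
import Groth.Agent.Lib.RefHull.Open

/-!
# The locus of closedness
-/

set_option linter.style.haveILetI false

universe u

open CategoryTheory AlgebraicGeometry Opposite TopologicalSpace
open Groth.Agent.Lib.QCoh.Localizing (res res_res res_self)
open Groth.Agent.Lib.Modules.Stalk

namespace Groth.Agent.H18.ZClos

variable {X : Scheme.{u}} [IsLocallyNoetherian X] {Z : Set X} {F : X.Modules}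

theorem isOpen_closedAt (hF : Coh.IsCoh F) (hH : Coh.IsCoh ((_root_.ZClos.H0 Z).obj F)) :
    IsOpen {x : X | _root_.ZClos.IsZClosedAt Z F x} :=
  Lib.RefHull.Open.isOpen_bijective hF hH (_root_.ZClos.rhoApp Z F)

omit [IsLocallyNoetherian X] in
/-- Pointwise closedness on an open gives bijective restrictions there. -/
theorem closedOn_of_forall (V : X.Opens) (h : ∀ x ∈ V, _root_.ZClos.IsZClosedAt Z F x) : ClosedOn Z F V := by
  have hpure : ∀ (W : X.Opens), W ≤ V → ∀ T : _root_.ZClos.Cl Z,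
      Function.Injective (res F (inf_le_left : W ⊓ T.U ≤ W)) := by
    intro W hW T
    refine (injective_iff_map_eq_zero _).2 fun t ht => ?_
    refine eq_zero_of_forall _ fun x hx => ?_
    have h0 : F.presheaf.germ W x hx t = 0 := (h x (hW hx)).1 (by
      rw [map_zero, germ_rho T hx t, ht, map_zero, map_zero])
    obtain ⟨W', hW', hxW', hz⟩ := exists_nhd_of_germ_eq_zero hx h0
    exact ⟨W', hW', hxW', hz⟩
  intro T
  refine ⟨hpure V le_rfl T, fun s => ?_⟩
  have hloc : ∀ x : V, ∃ (W : X.Opens) (hW : W ≤ V) (_ : x.1 ∈ W) (t : Γ(F, W)),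
      res F (inf_le_left : W ⊓ T.U ≤ W) t = res F (inf_le_inf hW le_rfl) s := fun x => by
    obtain ⟨z, hz⟩ := (h x.1 x.2).2 (((_root_.ZClos.H0 Z).obj F).presheaf.germ V x.1 x.2 (ιsec Z F T V s))
    obtain ⟨W, hxW, t, rfl⟩ := TopCat.Presheaf.exists_germ_eq F.presheaf z
    change _root_.ZClos.rhoStalk Z F x.1 (F.presheaf.germ W x.1 hxW t) = _ at hz
    have hxWV : x.1 ∈ W ⊓ V := ⟨hxW, x.2⟩
    rw [← germ_res (inf_le_left : W ⊓ V ≤ W) hxWV t, germ_rho T hxWV, ←
      germ_res (inf_le_right : W ⊓ V ≤ V) hxWV (ιsec Z F T V s), ιsec_res, ← sub_eq_zero, ← map_sub,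
      ← map_sub] at hz
    obtain ⟨T', hT, W', hxW', hW', h0⟩ := (germ_eq_zero hxWV _).1 hz
    refine ⟨W', hW'.trans inf_le_right, hxW', res F (hW'.trans inf_le_left) t, ?_⟩
    rw [← sub_eq_zero]
    refine hpure (W' ⊓ T.U) (inf_le_left.trans (hW'.trans inf_le_right)) T' ?_
    rw [map_zero]
    have hle : (W' ⊓ T.U) ⊓ T'.U ≤ W' ⊓ T'.U := inf_le_inf inf_le_left le_rfl
    have := congrArg (res F hle) h0
    simp only [map_sub, res_res, map_zero] at this ⊢
    exact this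
  choose W hW hxW t ht using hloc
  obtain ⟨a, ha, -⟩ := TopCat.Sheaf.existsUnique_gluing' (⟨F.presheaf, F.isSheaf⟩ : TopCat.Sheaf AddCommGrpCat.{u} X)
    W V (fun x => homOfLE (hW x)) (fun x hx => Opens.mem_iSup.2 ⟨⟨x, hx⟩, hxW ⟨x, hx⟩⟩) t (fun x y => by
      change res F (inf_le_left : W x ⊓ W y ≤ W x) (t x) = res F (inf_le_right : W x ⊓ W y ≤ W y) (t y)
      refine hpure _ (inf_le_left.trans (hW x)) T ?_
      have h1 := congrArg (res F (inf_le_inf inf_le_left le_rfl : (W x ⊓ W y) ⊓ T.U ≤ W x ⊓ T.U)) (ht x)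
      have h2 := congrArg (res F (inf_le_inf inf_le_right le_rfl : (W x ⊓ W y) ⊓ T.U ≤ W y ⊓ T.U)) (ht y)
      simp only [res_res] at h1 h2 ⊢
      exact h1.trans h2.symm)
  refine ⟨a, ?_⟩
  rw [← sub_eq_zero]
  refine eq_zero_of_forall _ fun x hx => ⟨W ⟨x, hx.1⟩ ⊓ T.U, inf_le_inf (hW _) le_rfl, ⟨hxW ⟨x, hx.1⟩, hx.2⟩, ?_⟩
  have ha' : res F (hW ⟨x, hx.1⟩) a = t ⟨x, hx.1⟩ := ha _
  have h1 := ht ⟨x, hx.1⟩
  rw [← ha', res_res] at h1
  simp only [map_sub, res_res, sub_eq_zero]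
  exact h1

/-- Closedness of the restriction to an open is closedness at its points. -/
theorem isZClosed_restrict_iff (hZ : StableUnderSpecialization Z) (V : X.Opens) :
    _root_.ZClos.IsZClosed (V.ι.base ⁻¹' Z) ((Scheme.Modules.restrictFunctor V.ι).obj F) ↔
      ∀ x ∈ V, _root_.ZClos.IsZClosedAt Z F x := by
  rw [isZClosed_iff]
  constructor
  · intro h x hx
    have hcl : ∀ W : X.Opens, x ∈ W → ∃ W' : X.Opens, x ∈ W' ∧ W' ≤ W ∧ ClosedOn Z F W' := fun W hxW => by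
      refine ⟨V.ι ''ᵁ (V.ι ⁻¹ᵁ W), ?_, ?_, (closedOn_restrict_iff V hZ F _).1 (h _)⟩
      · rw [_root_.ZClos.ι_image_preimage]; exact ⟨hx, hxW⟩
      · rw [_root_.ZClos.ι_image_preimage]; exact inf_le_right
    exact ⟨rhoStalk_injective_of x fun W hW => (hcl W hW).imp fun _ h' => ⟨h'.1, h'.2.1, h'.2.2.pureOn⟩,
      rhoStalk_surjective_of x hcl⟩
  · intro h W
    refine (closedOn_restrict_iff V hZ F W).2 (closedOn_of_forall _ fun x hx => h x ?_)
    obtain ⟨w, -, rfl⟩ := hx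
    exact w.2

end Groth.Agent.H18.ZClos
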